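import Groth.Agent.L13.Canon.VertAdjunct
import Groth.Agent.L21.CurveDual.Exists
import Groth.Agent.L21.CurveDual.Coherent
import Groth.Agent.L21.CurveDual.Euler
import Groth.Agent.L21.CurveGor.Main
import Groth.Agent.L22.Adjunction.PnOmega
import Groth.Agent.L05.InterPair.Curve
import Groth.Agent.S11325

/-!
# The degree of the canonical sheaf of a vertical curve
-/

set_option autoImplicit false
set_option backward.isDefEq.respectTransparency false
set_option linter.style.haveILetI false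
universe u

open CategoryTheory CategoryTheory.Limits AlgebraicGeometry TopologicalSpace

noncomputable section

namespace Groth.L13.Canon

open Groth.L00.Tensor (tensorIso tensorAssoc tensorComm tensorUnitRight tensorUnitLeft)
open Groth.L22.CurveDeg.Det Groth.L22.Adjunction
open Groth.L16.HomSh (homMod homModF tensorHomAdj)

/-- Modules dualizing on coherent modules are unique. -/
theorem nonempty_iso_of_isDual {k : Type u} [Field k] {Y : Scheme.{u}} [Y.Over (Spec (CommRingCat.of k))]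
    {ω ω' : Y.Modules} (hω : Coh.IsCoh ω) (hω' : Coh.IsCoh ω') {t : Coh.HH Y ω 1 →ₗ[k] k}
    {t' : Coh.HH Y ω' 1 →ₗ[k] k}
    (h : ∀ F : Y.Modules, Coh.IsCoh F → Function.Bijective (Canon.dualityMap k Y 1 ω t F))
    (h' : ∀ F : Y.Modules, Coh.IsCoh F → Function.Bijective (Canon.dualityMap k Y 1 ω' t' F)) :
    Nonempty (ω ≅ ω') := by
  have hc : ∀ {F G K : Y.Modules} (a : F ⟶ G) (b : G ⟶ K) (z : Coh.HH Y F 1),
      Canon.HHlin k (a ≫ b) 1 z = Canon.HHlin k b 1 (Canon.HHlin k a 1 z) := fun a b z => by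
    show Sheaf.H.map _ 1 z = Sheaf.H.map _ 1 (Sheaf.H.map _ 1 z)
    rw [Functor.map_comp, Sheaf.H.map_comp_apply]
  have hid : ∀ {F : Y.Modules} (z : Coh.HH Y F 1), Canon.HHlin k (𝟙 F) 1 z = z := fun z => by
    show Sheaf.H.map _ 1 z = z
    rw [CategoryTheory.Functor.map_id, Sheaf.H.map_id_apply]
  obtain ⟨a, ha⟩ := (h' ω hω).2 t
  obtain ⟨b, hb⟩ := (h ω' hω').2 t'
  refine ⟨⟨a, b, (h ω hω).1 (LinearMap.ext fun z => ?_), (h' ω' hω').1 (LinearMap.ext fun z => ?_)⟩⟩
  · show t (Canon.HHlin k (a ≫ b) 1 z) = t (Canon.HHlin k (𝟙 ω) 1 z)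
    rw [hc, hid]
    exact (LinearMap.congr_fun hb _).trans (LinearMap.congr_fun ha z)
  · show t' (Canon.HHlin k (b ≫ a) 1 z) = t' (Canon.HHlin k (𝟙 ω') 1 z)
    rw [hc, hid]
    exact (LinearMap.congr_fun ha _).trans (LinearMap.congr_fun hb z)

/-- Duality for the canonical module of a curve in projective space. -/
theorem exists_duality_canonicalVia {k : Type u} [Field k] {Y : Scheme.{u}} [Y.Over (Spec (CommRingCat.of k))]
    [IsIntegral Y] (hd : topologicalKrullDim Y = 1) {N c : ℕ} (hN : c + 1 = N) (ιk : Y ⟶ CohB1.ProjSpace N k)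
    [IsClosedImmersion ιk] (hιk : ιk ≫ CohB1.ProjSpace.toSpec N k = Y ↘ Spec (CommRingCat.of k))
    (hreg : RegImm.IsRegularImmersionOfCodim .regular c ιk)
    (heq : ∀ Z : Set ↥Y, Z ∈ irreducibleComponents ↥Y → topologicalKrullDim ↥Z = ((N - c : ℕ) : WithBot ℕ∞))
    (hgen : ∀ x : Y, ∃ U : (CohB1.ProjSpace N k).affineOpens, ιk.base x ∈ (U : (CohB1.ProjSpace N k).Opens) ∧
      ∃ f : Fin c → Γ(CohB1.ProjSpace N k, (U : (CohB1.ProjSpace N k).Opens)),
        ιk.ker.ideal U = Ideal.span (Set.range f))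
    {M : Y.Modules} (hM : Canon.IsCanonicalVia ιk (CohB1.ProjSpace.toSpec N k) c N M) :
    PicF.IsInvertible M ∧ ∃ (M₀ : Y.Modules) (_ : M ≅ M₀) (t : Coh.HH Y M₀ 1 →ₗ[k] k),
      PicF.IsInvertible M₀ ∧ ∀ F : Y.Modules, Coh.IsCoh F →
        ∀ ψ : Coh.HH Y F 1 →ₗ[k] k, ∃! φ : F ⟶ M₀, ∀ x : Coh.HH Y F 1,
          ψ x = t (Sheaf.H.map ((SheafOfModules.toSheaf Y.ringCatSheaf).map φ) 1 x) := by
  haveI := Groth.L22.PDual.proper N k
  haveI : IsProper (Y ↘ Spec (CommRingCat.of k)) := hιk ▸ inferInstance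
  haveI := Groth.L21.RR.isNoetherian_of_proper (X := Y) k
  obtain ⟨DC, DΩ, hDC, hDΩ, ⟨e⟩⟩ := hM
  have hC := isFinLocFreeOfRank_conormal ιk hreg
  have hDCi : PicF.IsInvertible DC := by
    obtain ⟨φ, hφ⟩ := hDC
    exact isInvertible_of_extPow φ hφ hC
  haveI : DCoh.HasSheafHom DC := ⟨_, ⟨(tensorHomAdj DC).ofNatIsoLeft (Groth.L22.PDual.biIso DC)⟩⟩
  let D := (DCoh.sheafHom DC).obj (Coh.structureModule Y)
  obtain ⟨DC', hDC'i, ⟨n⟩⟩ := Groth.L08.Cube.exists_inverse hDCi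
  let eS : DCoh.sheafHom DC ≅ homModF DC :=
    (DCoh.sheafHomAdj DC).rightAdjointUniq ((tensorHomAdj DC).ofNatIsoLeft (Groth.L22.PDual.biIso DC))
  obtain ⟨u₁⟩ := nonempty_homMod_tensor hDCi DC'
  let v₁ : D ≅ DC' := eS.app _ ≪≫ (homModF DC).mapIso n.symm ≪≫ u₁
  obtain ⟨w⟩ := nonempty_topForms_projSpace N k hDΩ
  let M₀ := CohB1.tensorMod ((Scheme.Modules.pullback ιk).obj (Twist.twistProjSpace N k (-((N : ℤ) + 1)))) D
  let eM : M ≅ M₀ := (tensorUnitRight M).symm ≪≫ tensorIso (Iso.refl M) n.symm ≪≫ (tensorAssoc _ _ _).symm ≪≫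
    tensorIso (e ≪≫ (Scheme.Modules.pullback ιk).mapIso w) v₁.symm
  have hM0 : PicF.IsInvertible M₀ :=
    Groth.L18.GenLoc.isInvertible_tensor
      (Groth.L18.Ample.isInvertible_pullback ιk (Groth.L16.ProjTwist.isInvertible_twistProjSpace N k _))
      (Groth.L18.Ample.isInvertible_of_iso v₁.symm hDC'i)
  obtain ⟨t₀, ht₀⟩ := Groth.Agent.S11325.result k N c (by omega) Y ιk hιk heq hgen DC hDC
  have key : ∀ r : ℕ, N - c = r → ∃ t : Coh.HH Y M₀ r →ₗ[k] k, ∀ F : Y.Modules, Coh.IsCoh F →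
      ∀ ψ : Coh.HH Y F r →ₗ[k] k, ∃! φ : F ⟶ M₀, ∀ x : Coh.HH Y F r,
        ψ x = t (Sheaf.H.map ((SheafOfModules.toSheaf Y.ringCatSheaf).map φ) r x) := by
    rintro r rfl
    exact ⟨t₀, ht₀⟩
  obtain ⟨t, hdual⟩ := key 1 (by omega)
  exact ⟨Groth.L18.Ample.isInvertible_of_iso eM.symm hM0, M₀, eM, t, hM0, hdual⟩

/-- A canonical sheaf of an integral curve in projective space has Euler characteristic `-χ(O)`. -/
theorem euler_canonicalVia_curve {k : Type u} [Field k] {Y : Scheme.{u}} [Y.Over (Spec (CommRingCat.of k))]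
    [IsIntegral Y] (hd : topologicalKrullDim Y = 1) {N c : ℕ} (hN : c + 1 = N) (ιk : Y ⟶ CohB1.ProjSpace N k)
    [IsClosedImmersion ιk] (hιk : ιk ≫ CohB1.ProjSpace.toSpec N k = Y ↘ Spec (CommRingCat.of k))
    (hreg : RegImm.IsRegularImmersionOfCodim .regular c ιk)
    (heq : ∀ Z : Set ↥Y, Z ∈ irreducibleComponents ↥Y → topologicalKrullDim ↥Z = ((N - c : ℕ) : WithBot ℕ∞))
    (hgen : ∀ x : Y, ∃ U : (CohB1.ProjSpace N k).affineOpens, ιk.base x ∈ (U : (CohB1.ProjSpace N k).Opens) ∧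
      ∃ f : Fin c → Γ(CohB1.ProjSpace N k, (U : (CohB1.ProjSpace N k).Opens)),
        ιk.ker.ideal U = Ideal.span (Set.range f))
    {M : Y.Modules} (hM : Canon.IsCanonicalVia ιk (CohB1.ProjSpace.toSpec N k) c N M) :
    PicF.IsInvertible M ∧ Curv2.euler k Y M = -Curv2.euler k Y (Coh.structureModule Y) := by
  haveI := Groth.L22.PDual.proper N k
  haveI : IsProper (Y ↘ Spec (CommRingCat.of k)) := hιk ▸ inferInstance
  haveI := Groth.L21.RR.isNoetherian_of_proper (X := Y) k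
  obtain ⟨hMi, M₀, eM, t, hM0, hdual⟩ := exists_duality_canonicalVia hd hN ιk hιk hreg heq hgen hM
  refine ⟨hMi, ?_⟩
  rw [Groth.L21.RR.euler_congr k eM]
  obtain ⟨ω, tω, hω⟩ := Groth.L21.CurveDual.exists_isRDual_of_proper (k := k) (X := Y) hd.le
  have hωc := Groth.L21.CurveDual.isCoh hd.le hω
  have hM0c : Coh.IsCoh M₀ := Groth.L16.ProperFinite.isCoh_of_isInvertible hM0
  have hass : ∀ x : Y, IsClosed ({x} : Set Y) → ¬ Curv2.IsAssPoint (Coh.structureModule Y) x := fun x hx => by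
    refine Groth.L21.CurveGor.not_assPoint_structure fun hfld => ?_
    have hne : x ≠ genericPoint Y := fun hxe => by
      have hu : ({x} : Set Y) = Set.univ := by
        rw [← hx.closure_eq, hxe]
        exact genericPoint_closure _
      have h0 : topologicalKrullDim Y ≤ 0 := by
        haveI : Subsingleton Y := ⟨fun a b => (show a ∈ ({x} : Set Y) from hu ▸ trivial).trans
          (show b ∈ ({x} : Set Y) from hu ▸ trivial).symm⟩
        haveI : DiscreteTopology Y := Subsingleton.discreteTopology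
        exact topologicalKrullDim_zero_of_discreteTopology ↥Y
      rw [hd] at h0
      exact not_lt.2 h0 (by norm_num)
    letI := hfld.toField
    obtain ⟨a, ha⟩ : genericPoint Y ∈ Set.range (Y.fromSpecStalk x) := by
      rw [Scheme.range_fromSpecStalk]
      exact genericPoint_specializes x
    obtain ⟨b, hb⟩ : x ∈ Set.range (Y.fromSpecStalk x) := by
      rw [Scheme.range_fromSpecStalk]
      exact specializes_rfl
    haveI : Subsingleton (PrimeSpectrum (Y.presheaf.stalk x)) := inferInstance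
    exact hne (hb.symm.trans ((congrArg _ (Subsingleton.elim (α := PrimeSpectrum (Y.presheaf.stalk x)) b a)).trans ha))
  have hbij : ∀ F : Y.Modules, Coh.IsCoh F → Function.Bijective (Canon.dualityMap k Y 1 M₀ t F) := by
    intro F hF
    refine ⟨fun a b hab => ?_, fun ψ => ?_⟩
    · obtain ⟨φ, -, hu⟩ := hdual F hF (Canon.dualityMap k Y 1 M₀ t F a)
      rw [hu a fun z => rfl, hu b fun z => LinearMap.congr_fun hab z]
    · obtain ⟨φ, hφ, -⟩ := hdual F hF ψ
      exact ⟨φ, LinearMap.ext fun z => (hφ z).symm⟩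
  obtain ⟨ε⟩ := nonempty_iso_of_isDual hM0c hωc (t := t) hbij (fun F hF => hω.2 F hF.1)
  rw [Groth.L21.RR.euler_congr k ε]
  exact Groth.L21.CurveDual.euler_eq_neg hd.le hω hass

/-- A canonical sheaf is invertible. -/
theorem isInvertible_of_isCanonical {X Y : Scheme.{u}} {f : X ⟶ Y} {ω : X.Modules} (hω : Canon.IsCanonical f ω) :
    PicF.IsInvertible ω := by
  obtain ⟨Z, i, g, c, n, -, hi, hg, hqc, hqs, DC, DΩ, hDC, hDΩ, ⟨e⟩⟩ := hω
  haveI := hqc
  haveI := hqs
  haveI := hg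
  obtain ⟨φ, hφ⟩ := hDC
  obtain ⟨ψ, hψ⟩ := hDΩ
  have hD := isInvertible_of_extPow φ hφ (isFinLocFreeOfRank_conormal i hi)
  have hH := Groth.L18.Ample.isInvertible_pullback i
    (isInvertible_of_extPow ψ hψ (Groth.L02.Canon.isFinLocFreeOfRank_omega (f := g) n))
  obtain ⟨D', hD', ⟨nD⟩⟩ := Groth.L08.Cube.exists_inverse hD
  exact Groth.L18.Ample.isInvertible_of_iso (tensorIso e.symm (Iso.refl D') ≪≫ tensorAssoc _ _ _ ≪≫
    tensorIso (Iso.refl ω) nD ≪≫ tensorUnitRight ω) (Groth.L18.GenLoc.isInvertible_tensor hH hD')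

variable {R : Type u} [CommRing R] [IsDomain R] [IsDiscreteValuationRing R]
  {X : Over (Spec (CommRingCat.of R))} (hX : ArSurf.IsArithSurface R X) (E : ArSurf.VertComp R X)

include hX in
/-- `(L + K) · E = -2 χ(O_E)`. -/
theorem inter_add_inter {L : X.left.Modules} (hL : ClSub.IsInverseOf L (ClSub.idealMod E.ι.ker))
    {ω : X.left.Modules} (hω : Canon.IsCanonical X.hom ω) :
    ArSurf.inter R X L E + ArSurf.inter R X ω E =
      -2 * Curv2.euler (IsLocalRing.ResidueField R) E.curve.left (Coh.structureModule E.curve.left) := by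
  obtain ⟨N, c, ιk, hN, hcl, hιk, hreg, heq, hgen, hvia⟩ := exists_canonicalVia_vert hX E hL hω
  haveI := hcl
  let κ := IsLocalRing.ResidueField R
  obtain ⟨hMi, hM⟩ := euler_canonicalVia_curve (k := κ) E.dim_eq hN ιk hιk hreg heq hgen hvia
  haveI := Groth.L22.PDual.proper N κ
  haveI : IsProper (E.curve.left ↘ Spec (CommRingCat.of κ)) := by
    show IsProper E.curve.hom
    rw [← hιk]
    infer_instance
  have hLi : PicF.IsInvertible L := by
    obtain ⟨eL⟩ := hL
    exact Groth.L22.EnrSev.isInvertible_of_inverse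
      ((Groth.Agent.L19.IdealInvertible.isEffCartier_iff _).2 (isEffCartier_vert hX E))
      (tensorComm _ _ ≪≫ eL)
  have hωi : PicF.IsInvertible ω := isInvertible_of_isCanonical hω
  rw [ArSurf.inter, ArSurf.inter, ← Groth.L05.InterPair.curveDeg_tensor κ E.dim_eq
    (Groth.L18.Ample.isInvertible_pullback E.ι hLi) (Groth.L18.Ample.isInvertible_pullback E.ι hωi),
    Groth.L05.InterPair.curveDeg_congr κ E.dim_eq (Groth.L29.DC.PullTensor.pullTensor E.ι L ω),
    Groth.L05.InterPair.curveDeg_eq_euler κ E.dim_eq, hM]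
  ring

end Groth.L13.Canon
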