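import Groth.Agent.L13.Canon.Conormal
import Groth.Agent.L22.Adjunction.PnOver
import Groth.Agent.L22.Adjunction.DetLine
import Groth.Agent.L22.EnrSev.Basic
import Groth.Agent.S9386
import Groth.Agent.L00.TensorMod
import Groth.Agent.L18.KRRAmple

/-!
# The canonical module does not depend on the factorisation
-/

set_option autoImplicit false
set_option backward.isDefEq.respectTransparency false
set_option linter.style.haveILetI false
universe u

open CategoryTheory CategoryTheory.Limits AlgebraicGeometry TopologicalSpace Opposite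

noncomputable section

namespace Groth.L13.Canon

open Groth.L22.CurveDeg.Det Groth.L22.Adjunction
open Groth.L00.Tensor (tensorIso tensorAssoc tensorComm tensorUnitRight tensorUnitLeft)

/-- Exterior powers of isomorphic modules are isomorphic. -/
theorem nonempty_det_congr {X : Scheme.{u}} {n : ℕ} {E E' W W' : X.Modules} (e : E ≅ E')
    (hE : FlatMod.IsFinLocFreeOfRank n E) (hE' : FlatMod.IsFinLocFreeOfRank n E')
    (hW : ExtPow.IsExtPow n E W) (hW' : ExtPow.IsExtPow n E' W') : Nonempty (W ≅ W') := by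
  obtain ⟨r⟩ := nonempty_det_pullback (𝟙 X) hE hW hE' hW' ((Scheme.Modules.pullbackId X).app E ≪≫ e)
  exact ⟨((Scheme.Modules.pullbackId X).app W).symm ≪≫ r⟩

/-- Invertible factors cancel. -/
theorem nonempty_cancel {X : Scheme.{u}} {D A B : X.Modules} (hD : PicF.IsInvertible D)
    (e : CohB1.tensorMod A D ≅ CohB1.tensorMod B D) : Nonempty (A ≅ B) := by
  obtain ⟨N, -, ⟨n⟩⟩ := Groth.L08.Cube.exists_inverse hD
  exact ⟨(tensorUnitRight A).symm ≪≫ tensorIso (Iso.refl A) n.symm ≪≫ (tensorAssoc A D N).symm ≪≫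
    tensorIso e (Iso.refl N) ≪≫ tensorAssoc B D N ≪≫ tensorIso (Iso.refl B) n ≪≫ tensorUnitRight B⟩

variable {X Y Z Z' T : Scheme.{u}}

/-- The determinant of the conormal module of an immersion lifted to a smooth base change. -/
theorem nonempty_det_lift (g : Z ⟶ Y) (g' : Z' ⟶ Y) (p : T ⟶ Z) (p' : T ⟶ Z') (sq : IsPullback p p' g g')
    (k : X ⟶ T) (i : X ⟶ Z) (i' : X ⟶ Z') (hk : k ≫ p = i) (hk' : k ≫ p' = i')
    [IsImmersion i] [IsImmersion k] [QuasiCompact i] [QuasiCompact k] [QuasiSeparated g']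
    {c n' : ℕ} [SmoothOfRelativeDimension n' g'] (hC : FlatMod.IsFinLocFreeOfRank c (Omega.conormal i))
    {DC : X.Modules} (hDC : ExtPow.IsExtPow c (Omega.conormal i) DC)
    {DΩ' : Z'.Modules} (hDΩ' : ExtPow.IsExtPow n' (Omega.sheaf g') DΩ') :
    FlatMod.IsFinLocFreeOfRank (c + n') (Omega.conormal k) ∧
      ∀ DT : X.Modules, ExtPow.IsExtPow (c + n') (Omega.conormal k) DT →
        Nonempty (DT ≅ CohB1.tensorMod DC ((Scheme.Modules.pullback i').obj DΩ')) := by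
  haveI := smoothOfRelativeDimension_isStableUnderBaseChange (n := n')
  haveI : SmoothOfRelativeDimension n' p :=
    MorphismProperty.of_isPullback (P := @SmoothOfRelativeDimension n') sq.flip inferInstance
  haveI : Smooth p := SmoothOfRelativeDimension.smooth n' p
  haveI : QuasiSeparated p := MorphismProperty.of_isPullback (P := @QuasiSeparated) sq.flip inferInstance
  obtain ⟨ψ, hψ, -⟩ := Groth.Agent.S9371.result k i p (𝟙 X) ((Category.id_comp i).trans hk.symm)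
  obtain ⟨φ, hφ⟩ := Groth.L19.OmegaSh.exists_conormalDiff k (OmegaSh.dOmega p)
  obtain ⟨w, hse⟩ := Groth.Agent.S9711.result p k i hk _ _ (Groth.L19.OmegaSh.isUniversal_dOmega (f := p)) ψ hψ φ hφ
  have hA : FlatMod.IsFinLocFreeOfRank c ((Scheme.Modules.pullback (𝟙 X)).obj (Omega.conormal i)) :=
    Groth.L12.StabLimit.isFinLocFreeOfRank_pullback (𝟙 X) hC
  have hΩp := Groth.L02.Canon.isFinLocFreeOfRank_omega (f := p) n'
  have hΩg := Groth.L02.Canon.isFinLocFreeOfRank_omega (f := g') n'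
  have hB : FlatMod.IsFinLocFreeOfRank n' ((Scheme.Modules.pullback k).obj (Omega.sheaf p)) :=
    Groth.L12.StabLimit.isFinLocFreeOfRank_pullback k hΩp
  have hF := isFinLocFreeOfRank_middle hse hA hB
  refine ⟨hF, fun DT hDT => ?_⟩
  have hd := Groth.L19.OmegaSh.isUniversal_dOmega (f := g')
  have hd' := Groth.L19.OmegaSh.isUniversal_dOmega (f := p)
  obtain ⟨b, hb, -⟩ := Groth.L19.OmegaSh.existsUnique_diffCompat p' g sq.w hd (OmegaSh.dOmega p)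
  haveI := Groth.Agent.S9386.result g' g p' p sq.flip _ _ hd _ _ hd' b hb
  obtain ⟨LA, hLA, -⟩ := exists_isExtPow hA
  obtain ⟨LB, hLB, -⟩ := exists_isExtPow hB
  let τ : (Scheme.Modules.pullback (𝟙 X)).obj (Omega.conormal k) ≅ Omega.conormal k :=
    (Scheme.Modules.pullbackId X).app (Omega.conormal k)
  have hw' : (ψ ≫ τ.inv) ≫ τ.hom ≫ φ = 0 := by simp [w]
  have hse' : (ShortComplex.mk (ψ ≫ τ.inv) (τ.hom ≫ φ) hw').ShortExact :=
    ShortComplex.shortExact_of_iso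
      (ShortComplex.isoMk (S₁ := ShortComplex.mk ψ φ w) (S₂ := ShortComplex.mk (ψ ≫ τ.inv) (τ.hom ≫ φ) hw')
        (Iso.refl _) τ.symm (Iso.refl _) (by simp) (by simp)) hse
  obtain ⟨r⟩ := nonempty_det_iso (𝟙 X) hF hDT hA hLA hB hLB (ψ ≫ τ.inv) (τ.hom ≫ φ) hw' hse'
  obtain ⟨a⟩ := nonempty_det_pullback (𝟙 X) hC hDC hA hLA (Iso.refl _)
  obtain ⟨o⟩ := nonempty_det_pullback i' hΩg hDΩ' hB hLB
    ((Scheme.Modules.pullbackCongr hk'.symm).app _ ≪≫ ((Scheme.Modules.pullbackComp k p').app _).symm ≪≫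
      (Scheme.Modules.pullback k).mapIso (asIso b))
  exact ⟨((Scheme.Modules.pullbackId X).app DT).symm ≪≫ r ≪≫
    tensorIso (a.symm ≪≫ (Scheme.Modules.pullbackId X).app DC) o.symm⟩

/-- Two factorisations give the same canonical module. -/
theorem nonempty_iso_of_isCanonicalVia {Z₁ Z₂ : Scheme.{u}}
    (i₁ : X ⟶ Z₁) (g₁ : Z₁ ⟶ Y) (i₂ : X ⟶ Z₂) (g₂ : Z₂ ⟶ Y)
    [QuasiCompact i₁] [QuasiCompact i₂] [QuasiSeparated g₁] [QuasiSeparated g₂]
    (h : i₁ ≫ g₁ = i₂ ≫ g₂) {c₁ n₁ c₂ n₂ : ℕ}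
    (hi₁ : RegImm.IsRegularImmersionOfCodim .regular c₁ i₁) [SmoothOfRelativeDimension n₁ g₁]
    (hi₂ : RegImm.IsRegularImmersionOfCodim .regular c₂ i₂) [SmoothOfRelativeDimension n₂ g₂]
    {ω₁ ω₂ : X.Modules} (hω₁ : Canon.IsCanonicalVia i₁ g₁ c₁ n₁ ω₁) (hω₂ : Canon.IsCanonicalVia i₂ g₂ c₂ n₂ ω₂) :
    Nonempty (ω₁ ≅ ω₂) := by
  rcases isEmpty_or_nonempty X with hX | hX
  · exact ⟨(Groth.L22.Adjunction.isZero_of_isEmpty ω₁).iso (Groth.L22.Adjunction.isZero_of_isEmpty ω₂)⟩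
  obtain ⟨DC₁, DΩ₁, hDC₁, hDΩ₁, ⟨e₁⟩⟩ := hω₁
  obtain ⟨DC₂, DΩ₂, hDC₂, hDΩ₂, ⟨e₂⟩⟩ := hω₂
  haveI := hi₁.1
  haveI := hi₂.1
  let k : X ⟶ pullback g₁ g₂ := pullback.lift i₁ i₂ h
  have hk₁ : k ≫ pullback.fst g₁ g₂ = i₁ := pullback.lift_fst _ _ _
  have hk₂ : k ≫ pullback.snd g₁ g₂ = i₂ := pullback.lift_snd _ _ _
  haveI : IsImmersion (k ≫ pullback.fst g₁ g₂) := hk₁.symm ▸ hi₁.1
  haveI : IsImmersion k := IsImmersion.of_comp k (pullback.fst g₁ g₂)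
  haveI : QuasiSeparated (pullback.fst g₁ g₂) :=
    MorphismProperty.pullback_fst (P := @QuasiSeparated) _ _ inferInstance
  haveI : QuasiCompact (k ≫ pullback.fst g₁ g₂) := hk₁.symm ▸ inferInstance
  haveI : QuasiCompact k := QuasiCompact.of_comp k (pullback.fst g₁ g₂)
  have hC₁ := isFinLocFreeOfRank_conormal i₁ hi₁
  have hC₂ := isFinLocFreeOfRank_conormal i₂ hi₂
  obtain ⟨hF, h₁⟩ := nonempty_det_lift g₁ g₂ (pullback.fst g₁ g₂) (pullback.snd g₁ g₂)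
    (IsPullback.of_hasPullback g₁ g₂) k i₁ i₂ hk₁ hk₂ hC₁ hDC₁ hDΩ₂
  obtain ⟨hF', h₂⟩ := nonempty_det_lift g₂ g₁ (pullback.snd g₁ g₂) (pullback.fst g₁ g₂)
    (IsPullback.of_hasPullback g₁ g₂).flip k i₂ i₁ hk₂ hk₁ hC₂ hDC₂ hDΩ₁
  have hrk : c₁ + n₂ = c₂ + n₁ := by
    obtain ⟨x⟩ := hX
    obtain ⟨U, hU, ⟨e⟩⟩ := hF x
    obtain ⟨V, hV, ⟨e'⟩⟩ := hF' x
    exact Groth.L18.KRRAmple.rank_unique hU hV e e'
  obtain ⟨DT, hDT, -⟩ := exists_isExtPow hF
  obtain ⟨t₁⟩ := h₁ DT hDT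
  obtain ⟨t₂⟩ := h₂ DT (hrk ▸ hDT)
  have hD₁ : PicF.IsInvertible DC₁ := by
    obtain ⟨φ, hφ⟩ := hDC₁
    exact isInvertible_of_extPow φ hφ hC₁
  have hD₂ : PicF.IsInvertible DC₂ := by
    obtain ⟨φ, hφ⟩ := hDC₂
    exact isInvertible_of_extPow φ hφ hC₂
  refine nonempty_cancel (Groth.L18.GenLoc.isInvertible_tensor hD₁ hD₂) ?_
  exact (tensorAssoc _ _ _).symm ≪≫ tensorIso e₁ (Iso.refl DC₂) ≪≫ tensorComm _ _ ≪≫ t₂.symm ≪≫ t₁ ≪≫
    tensorIso (Iso.refl DC₁) e₂.symm ≪≫ tensorComm _ _ ≪≫ tensorAssoc _ _ _ ≪≫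
    tensorIso (Iso.refl ω₂) (tensorComm _ _)

end Groth.L13.Canon
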