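import Groth.Agent.L13.Canon.VertSetup
import Groth.Agent.L13.Canon.Indep
import Groth.Agent.L12.Kvb.Lambda
import Groth.Agent.L12.FinCov.Frame
import Groth.Agent.S8919
import Groth.Agent.S9371

/-!
# Adjunction for a vertical curve of an arithmetic surface
-/

set_option autoImplicit false
set_option backward.isDefEq.respectTransparency false
set_option linter.style.haveILetI false
set_option linter.unusedSectionVars false
universe u

open CategoryTheory CategoryTheory.Limits AlgebraicGeometry TopologicalSpace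

noncomputable section

namespace Groth.L13.Canon

open Groth.L22.CurveDeg.Det Groth.L22.Adjunction
open Groth.L00.Tensor (tensorIso tensorAssoc tensorComm tensorUnitRight tensorUnitLeft)

/-- A regular immersion is regular of every kind. -/
theorem isRegularImmersion_kind {Z W : Scheme.{u}} {i : Z ⟶ W} {c : ℕ} (k : RegImm.Kind)
    (hi : RegImm.IsRegularImmersionOfCodim .regular c i) : RegImm.IsRegularImmersion k i :=
  ⟨hi.1, fun z => by
    obtain ⟨U, hzU, hcl, rs, -, hrs, hker⟩ := hi.2 z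
    exact ⟨U, hzU, hcl, rs, Groth.L14.RegImmStalk.kind_of_isRegular k hrs, hker⟩⟩

/-- An effective Cartier closed subscheme with domain stalks around it is regularly immersed. -/
theorem isRegularImmersion_effCartier {Z W : Scheme.{u}} (i : Z ⟶ W) [IsClosedImmersion i]
    [IsLocallyNoetherian W] (k : RegImm.Kind) (hi : BlowUp.IsEffCartierIdeal i.ker)
    (hW : ∀ w : W, IsDomain (W.presheaf.stalk w)) : RegImm.IsRegularImmersion k i := by
  refine ⟨inferInstance, fun z => (Groth.L14.RegImmStalk.regularAt_iff_stalk i k z).2 ?_⟩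
  obtain ⟨t, ht, hk⟩ := exists_stalk_eq i hi z
  haveI := hW (i z)
  have hne : Ideal.ofList [t] ≠ ⊤ := by
    rw [Ideal.ofList_singleton, ← hk]
    exact RingHom.ker_ne_top _
  exact ⟨[t], ⟨(RingTheory.Sequence.isWeaklyRegular_singleton_iff _ _).2
    (fun a b h => mul_left_cancel₀ ht h), fun htop => hne (by rw [smul_eq_mul, Ideal.mul_top] at htop; exact htop.symm)⟩,
    by rw [hk, Ideal.ofList_singleton]⟩

/-- The determinant of a short exact sequence of locally free modules. -/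
theorem nonempty_det_ses {Z : Scheme.{u}} {A F B : Z.Modules} {ψ : A ⟶ F} {φ : F ⟶ B} {w : ψ ≫ φ = 0}
    (hse : (ShortComplex.mk ψ φ w).ShortExact) {p q : ℕ} (hA : FlatMod.IsFinLocFreeOfRank p A)
    (hB : FlatMod.IsFinLocFreeOfRank q B) {LA LB : Z.Modules} (hLA : ExtPow.IsExtPow p A LA)
    (hLB : ExtPow.IsExtPow q B LB) {DF : Z.Modules} (hDF : ExtPow.IsExtPow (p + q) F DF) :
    Nonempty (DF ≅ CohB1.tensorMod LA LB) := by
  have hF : FlatMod.IsFinLocFreeOfRank (p + q) F := isFinLocFreeOfRank_middle hse hA hB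
  let τ : (Scheme.Modules.pullback (𝟙 Z)).obj F ≅ F := (Scheme.Modules.pullbackId Z).app F
  have hw' : (ψ ≫ τ.inv) ≫ τ.hom ≫ φ = 0 := by simp [w]
  have hse' : (ShortComplex.mk (ψ ≫ τ.inv) (τ.hom ≫ φ) hw').ShortExact :=
    ShortComplex.shortExact_of_iso
      (ShortComplex.isoMk (S₁ := ShortComplex.mk ψ φ w) (S₂ := ShortComplex.mk (ψ ≫ τ.inv) (τ.hom ≫ φ) hw')
        (Iso.refl _) τ.symm (Iso.refl _) (by simp) (by simp)) hse
  obtain ⟨r⟩ := nonempty_det_iso (𝟙 Z) hF hDF hA hLA hB hLB (ψ ≫ τ.inv) (τ.hom ≫ φ) hw' hse'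
  exact ⟨((Scheme.Modules.pullbackId Z).app DF).symm ≪≫ r⟩

/-- The conormal sequence of a composite whose first map is `H₁`-regular, with determinants. -/
theorem conormal_comp_det {Z Y W : Scheme.{u}} (i : Z ⟶ Y) (j : Y ⟶ W) [IsClosedImmersion i] [IsClosedImmersion j]
    (hi : RegImm.IsRegularImmersion RegImm.Kind.h1 i) {p q : ℕ}
    (hCj : FlatMod.IsFinLocFreeOfRank p (Omega.conormal j)) (hCi : FlatMod.IsFinLocFreeOfRank q (Omega.conormal i))
    {Dj : Y.Modules} (hDj : ExtPow.IsExtPow p (Omega.conormal j) Dj) {Di : Z.Modules}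
    (hDi : ExtPow.IsExtPow q (Omega.conormal i) Di) :
    FlatMod.IsFinLocFreeOfRank (p + q) (Omega.conormal (i ≫ j)) ∧
      ∀ DF : Z.Modules, ExtPow.IsExtPow (p + q) (Omega.conormal (i ≫ j)) DF →
        Nonempty (DF ≅ CohB1.tensorMod ((Scheme.Modules.pullback i).obj Dj) Di) := by
  obtain ⟨a, ha, -⟩ := Groth.Agent.S9371.result (i ≫ j) j (𝟙 W) i (by simp)
  obtain ⟨b, hb, -⟩ := Groth.Agent.S9371.result i (i ≫ j) j (𝟙 Z) (by simp)
  obtain ⟨w, hse, -⟩ := Groth.Agent.S8919.result i j a ha b hb hi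
  have hA : FlatMod.IsFinLocFreeOfRank p ((Scheme.Modules.pullback i).obj (Omega.conormal j)) :=
    Groth.L12.StabLimit.isFinLocFreeOfRank_pullback i hCj
  refine ⟨isFinLocFreeOfRank_middle (hse w) hA hCi, fun DF hDF => ?_⟩
  obtain ⟨LA, hLA, -⟩ := exists_isExtPow hA
  obtain ⟨e⟩ := nonempty_det_pullback i hCj hDj hA hLA (Iso.refl _)
  obtain ⟨r⟩ := nonempty_det_ses (hse w) hA hCi hLA hDi hDF
  exact ⟨r ≪≫ tensorIso e.symm (Iso.refl _)⟩

theorem isInvertible_conormal_effCartier {Z W : Scheme.{u}} (i : Z ⟶ W)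
    (hi : BlowUp.IsEffCartierIdeal i.ker) : PicF.IsInvertible (Omega.conormal i) :=
  Groth.L18.Ample.isInvertible_pullback i ((Groth.Agent.L19.IdealInvertible.isEffCartier_iff _).2 hi)

variable {R : Type u} [CommRing R] [IsDomain R] [IsDiscreteValuationRing R]
  {X : Over (Spec (CommRingCat.of R))} (hX : ArSurf.IsArithSurface R X) (E : ArSurf.VertComp R X)

include hX in
/-- Adjunction: `ι^*(L ⊗ ω)` is canonical for the curve in its projective space over the residue field. -/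
theorem exists_canonicalVia_vert {L : X.left.Modules} (hL : ClSub.IsInverseOf L (ClSub.idealMod E.ι.ker))
    {ω : X.left.Modules} (hω : Canon.IsCanonical X.hom ω) :
    ∃ (N c : ℕ) (ιk : E.curve.left ⟶ CohB1.ProjSpace N (IsLocalRing.ResidueField R)),
      c + 1 = N ∧ IsClosedImmersion ιk ∧
      ιk ≫ CohB1.ProjSpace.toSpec N (IsLocalRing.ResidueField R) = E.curve.hom ∧
      RegImm.IsRegularImmersionOfCodim .regular c ιk ∧
      (∀ Z : Set ↥E.curve.left, Z ∈ irreducibleComponents ↥E.curve.left →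
          topologicalKrullDim ↥Z = ((N - c : ℕ) : WithBot ℕ∞)) ∧
      (∀ x : E.curve.left, ∃ U : (CohB1.ProjSpace N (IsLocalRing.ResidueField R)).affineOpens,
          ιk.base x ∈ (U : (CohB1.ProjSpace N (IsLocalRing.ResidueField R)).Opens) ∧
            ∃ f : Fin c → Γ(CohB1.ProjSpace N (IsLocalRing.ResidueField R),
                (U : (CohB1.ProjSpace N (IsLocalRing.ResidueField R)).Opens)),
              ιk.ker.ideal U = Ideal.span (Set.range f)) ∧
      Canon.IsCanonicalVia ιk (CohB1.ProjSpace.toSpec N (IsLocalRing.ResidueField R)) c N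
        ((Scheme.Modules.pullback E.ι).obj (CohB1.tensorMod L ω)) := by
  obtain ⟨N, j, hjcl, hj⟩ := exists_embedding hX
  haveI := hjcl
  obtain ⟨c, ιk, hjc, hN, hιcl, hιk, hιq, heq, hgen⟩ := exists_vert_lci hX E j hj
  haveI := hιcl
  have hEC := isEffCartier_vert hX E
  let κ := IsLocalRing.ResidueField R
  let q := qk R N
  haveI := isClosedImmersion_qk (R := R) N
  let g := CohB1.ProjSpace.toSpec N R
  let gk := CohB1.ProjSpace.toSpec N κ
  haveI : IsNoetherianRing (CommRingCat.of R) := inferInstanceAs (IsNoetherianRing R)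
  haveI : IsProper X.hom := hj ▸ inferInstance
  haveI : IsLocallyNoetherian X.left := LocallyOfFiniteType.isLocallyNoetherian X.hom
  have hregk : RegImm.IsRegularImmersionOfCodim .regular c ιk :=
    isRegularImmersionOfCodim_lci ιk hιk heq (by omega) hgen
  refine ⟨N, c, ιk, hN, hιcl, hιk, hregk, heq, hgen, ?_⟩
  -- the canonical sheaf of the surface through the chosen embedding
  have hCj := isFinLocFreeOfRank_conormal j hjc
  have hΩ := Groth.L02.Canon.isFinLocFreeOfRank_omega (f := g) N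
  obtain ⟨Dj, hDj, hDji⟩ := exists_isExtPow hCj
  obtain ⟨DΩ, hDΩ, -⟩ := exists_isExtPow hΩ
  obtain ⟨Dj', -, ⟨n⟩⟩ := Groth.L08.Cube.exists_inverse hDji
  let ω₀ := CohB1.tensorMod ((Scheme.Modules.pullback j).obj DΩ) Dj'
  have hvia : Canon.IsCanonicalVia j g c N ω₀ := ⟨Dj, DΩ, hDj, hDΩ,
    ⟨tensorAssoc _ _ _ ≪≫ tensorIso (Iso.refl _) (tensorComm _ _ ≪≫ n) ≪≫ tensorUnitRight _⟩⟩
  obtain ⟨Z, i, g', c', n', hig, hi, hg', hiqc, hgqs, hvia'⟩ := hω
  haveI := hiqc
  haveI := hgqs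
  haveI := hg'
  obtain ⟨eω⟩ := nonempty_iso_of_isCanonicalVia i g' j g (hig.trans hj.symm) hi hjc hvia' hvia
  let eX : CohB1.tensorMod ω Dj ≅ (Scheme.Modules.pullback j).obj DΩ :=
    tensorIso eω (Iso.refl Dj) ≪≫ tensorAssoc _ _ _ ≪≫ tensorIso (Iso.refl _) (tensorComm _ _ ≪≫ n) ≪≫ tensorUnitRight _
  -- the two conormal sequences
  have hCι := isInvertible_conormal_effCartier E.ι hEC
  have hCι1 := Groth.L12.FinCov.isFinLocFreeOfRank_one_of_isInvertible hCι
  have hreg1 : RegImm.IsRegularImmersion RegImm.Kind.h1 E.ι := isRegularImmersion_effCartier E.ι _ hEC fun x => by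
    haveI := hX.1 x
    exact Groth.L01.isDomain_of_regular _
  obtain ⟨hF, h₁⟩ := conormal_comp_det E.ι j hreg1 hCj hCι1 hDj (Groth.L12.Kvb.isExtPow_one _)
  have hCq := isInvertible_conormal_effCartier q (isEffCartier_qk N)
  have hCk := isFinLocFreeOfRank_conormal ιk hregk
  obtain ⟨Dk, hDk, -⟩ := exists_isExtPow hCk
  obtain ⟨-, h₂⟩ := conormal_comp_det ιk q (isRegularImmersion_kind _ hregk)
    (Groth.L12.FinCov.isFinLocFreeOfRank_one_of_isInvertible hCq) hCk (Groth.L12.Kvb.isExtPow_one _) hDk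
  obtain ⟨DF, hDF, -⟩ := exists_isExtPow hF
  obtain ⟨r₁⟩ := h₁ DF hDF
  obtain ⟨r₂⟩ := h₂ DF (by rw [hιq, Nat.add_comm]; exact hDF)
  obtain ⟨eq₀⟩ := nonempty_idealMod_qk (R := R) N
  let eCq : Omega.conormal q ≅ Coh.structureModule _ :=
    (Scheme.Modules.pullback q).mapIso eq₀ ≪≫ Groth.L29.LocFree.pullbackUnitIso q
  let eDk : CohB1.tensorMod ((Scheme.Modules.pullback E.ι).obj Dj) (Omega.conormal E.ι) ≅ Dk :=
    r₁.symm ≪≫ r₂ ≪≫ tensorIso ((Scheme.Modules.pullback ιk).mapIso eCq ≪≫ Groth.L29.LocFree.pullbackUnitIso ιk)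
      (Iso.refl Dk) ≪≫ tensorUnitLeft Dk
  -- differentials
  have hΩk := Groth.L02.Canon.isFinLocFreeOfRank_omega (f := gk) N
  obtain ⟨DΩk, hDΩk, -⟩ := exists_isExtPow hΩk
  have hd := Groth.L19.OmegaSh.isUniversal_dOmega (f := g)
  have hd' := Groth.L19.OmegaSh.isUniversal_dOmega (f := gk)
  have hsq := isPullback_qk (R := R) N
  obtain ⟨b, hb, -⟩ := Groth.L19.OmegaSh.existsUnique_diffCompat q _ hsq.w.symm hd (OmegaSh.dOmega gk)
  haveI := Groth.Agent.S9386.result _ _ q _ hsq _ _ hd _ _ hd' b hb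
  obtain ⟨eΩ⟩ := nonempty_det_pullback q hΩ hDΩ hΩk hDΩk (asIso b)
  obtain ⟨eL⟩ := hL
  refine ⟨Dk, DΩk, hDk, hDΩk, ⟨?_⟩⟩
  let pT := fun A B : X.left.Modules => Groth.L29.DC.PullTensor.pullTensor E.ι A B
  exact tensorIso (pT L ω).symm eDk.symm ≪≫
    tensorAssoc _ _ _ ≪≫ tensorIso (Iso.refl _) ((tensorAssoc _ _ _).symm ≪≫ tensorComm _ _) ≪≫
    (tensorAssoc _ _ _).symm ≪≫
    tensorIso (pT L (ClSub.idealMod E.ι.ker) ≪≫ (Scheme.Modules.pullback E.ι).mapIso eL ≪≫
        Groth.L29.LocFree.pullbackUnitIso E.ι) (pT ω Dj ≪≫ (Scheme.Modules.pullback E.ι).mapIso eX) ≪≫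
    tensorUnitLeft _ ≪≫
    (Scheme.Modules.pullbackComp E.ι j).app DΩ ≪≫ (Scheme.Modules.pullbackCongr hιq.symm).app DΩ ≪≫
    ((Scheme.Modules.pullbackComp ιk q).app DΩ).symm ≪≫ (Scheme.Modules.pullback ιk).mapIso eΩ

end Groth.L13.Canon
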