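import Groth.Agent.L22.Adjunction.Seq
import Groth.Agent.L22.FLI.Chart
import Groth.Agent.L22.Adjunction.ExtTop
import Groth.Agent.L17.PullBasis
import Groth.Agent.S9711
import Groth.Agent.S9371
import Groth.Prelude.Def_Canon

/-!
# Conormal modules of regular immersions and ranks of extensions
-/

set_option autoImplicit false
set_option backward.isDefEq.respectTransparency false
set_option linter.style.haveILetI false
universe u

open CategoryTheory CategoryTheory.Limits AlgebraicGeometry TopologicalSpace Opposite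

noncomputable section

namespace Groth.L13.Canon

open Groth.L22.CurveDeg.Det Groth.L22.Adjunction
open Groth.L18.Frame (rs)
open Groth.L21.RR (st st_germ)
open Groth.L03.SurfAdj (exact_st)
open Groth.L20.ModStalk (germ_smul germ_rs)

/-- An extension of locally free modules is locally free of the sum of the ranks. -/
theorem isFinLocFreeOfRank_middle {Z : Scheme.{u}} {S : ShortComplex Z.Modules} (hS : S.ShortExact) {p q : ℕ}
    (hA : FlatMod.IsFinLocFreeOfRank p S.X₁) (hB : FlatMod.IsFinLocFreeOfRank q S.X₃) :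
    FlatMod.IsFinLocFreeOfRank (p + q) S.X₂ := by
  refine Groth.L12.FinCov.isFinLocFreeOfRank_of_bases fun z => ?_
  obtain ⟨VA, a₀, hzA, -, ha₀⟩ := exists_affine_basis hA z ⊤ trivial
  obtain ⟨VB, b₀, hzB, hle, hb₀⟩ := exists_affine_basis hB z VA.1 hzA
  obtain ⟨V, hV, σ, hzV, hσ⟩ := exists_lifts hS b₀ hzB
  let a := fun j => rs S.X₁ (hV.trans hle) (a₀ j)
  let b := fun j => rs S.X₃ hV (b₀ j)
  have ha : IsBasisS S.X₁ a := ha₀.mono _
  have hb : IsBasisS S.X₃ b := hb₀.mono _
  let e : Fin (p + q) → Γ(S.X₂, V.1) := fun k =>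
    Sum.elim (fun j => S.f.app V.1 (a j)) σ (finSumFinEquiv.symm k)
  have key : ∀ (y : Z) (hy : y ∈ V.1), Function.Bijective
      fun r : Fin (p + q) → Z.presheaf.stalk y => ∑ k, r k • S.X₂.presheaf.germ V.1 y hy (e k) := fun y hy => ?_
  · exact ⟨V.1, e, hzV, fun W h => Groth.L17.PullBasis.isBasis_of_stalk S.X₂ e key W (homOfLE h)⟩
  obtain ⟨hex, -⟩ := exact_st hS y
  have hinj : Function.Injective (st S.f y) := by
    have h := (Groth.L21.Mod.shortExact_iff_stalk _).1 hS y
    haveI := h.mono_f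
    exact (AddCommGrpCat.mono_iff_injective _).1 h.mono_f
  have hsum : ∀ r : Fin (p + q) → Z.presheaf.stalk y,
      ∑ k, r k • S.X₂.presheaf.germ V.1 y hy (e k) =
        st S.f y (∑ j, r (finSumFinEquiv (Sum.inl j)) • S.X₁.presheaf.germ V.1 y hy (a j)) +
          ∑ l, r (finSumFinEquiv (Sum.inr l)) • S.X₂.presheaf.germ V.1 y hy (σ l) := fun r => by
    rw [← Equiv.sum_comp finSumFinEquiv, Fintype.sum_sum_type, map_sum]
    simp only [map_smul, st_germ]
    simp only [e, Equiv.symm_apply_apply, Sum.elim_inl, Sum.elim_inr]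
  have hg0 : ∀ x, st S.g y (st S.f y x) = 0 := fun x => (hex _).2 ⟨x, rfl⟩
  have hgs : ∀ t : Fin q → Z.presheaf.stalk y, st S.g y (∑ l, t l • S.X₂.presheaf.germ V.1 y hy (σ l)) =
      ∑ l, t l • S.X₃.presheaf.germ V.1 y hy (b l) := fun t => by
    rw [map_sum]
    exact Finset.sum_congr rfl fun l _ => by rw [map_smul, st_germ, hσ l]
  constructor
  · intro r r' hrr
    have h0 : ∑ k, (r - r') k • S.X₂.presheaf.germ V.1 y hy (e k) = 0 := by
      simp only [Pi.sub_apply, sub_smul, Finset.sum_sub_distrib]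
      exact sub_eq_zero.2 hrr
    rw [hsum] at h0
    have h1 : (fun l => (r - r') (finSumFinEquiv (Sum.inr l))) = fun _ => 0 := (hb.stalk y hy).1 (by
      have h := congrArg (st S.g y) h0
      rw [map_add, hg0, zero_add, map_zero, hgs] at h
      simp only [zero_smul, Finset.sum_const_zero]
      exact h)
    have h1' : ∀ l, (r - r') (finSumFinEquiv (Sum.inr l)) = 0 := congrFun h1
    have h2 : (fun j => (r - r') (finSumFinEquiv (Sum.inl j))) = fun _ => 0 := (ha.stalk y hy).1 (by
      simp only [h1', zero_smul, Finset.sum_const_zero, add_zero] at h0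
      simp only [zero_smul, Finset.sum_const_zero]
      exact hinj (h0.trans (map_zero _).symm))
    refine funext fun k => sub_eq_zero.1 ?_
    obtain ⟨s, rfl⟩ := finSumFinEquiv.surjective k
    cases s with
    | inl j => exact congrFun h2 j
    | inr l => exact h1' l
  · intro m
    obtain ⟨t, ht⟩ := (hb.stalk y hy).2 (st S.g y m)
    obtain ⟨x, hx⟩ := (hex (m - ∑ l, t l • S.X₂.presheaf.germ V.1 y hy (σ l))).1 (by
      rw [map_sub, hgs]
      exact sub_eq_zero.2 ht.symm)
    obtain ⟨s, rfl⟩ := (ha.stalk y hy).2 x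
    refine ⟨fun k => Sum.elim s t (finSumFinEquiv.symm k), (hsum _).trans ?_⟩
    simp only [Equiv.symm_apply_apply, Sum.elim_inl, Sum.elim_inr]
    exact (congrArg (· + _) hx).trans (sub_add_cancel _ _)

/-- An open immersion has no differentials. -/
theorem isZero_omega_of_isOpenImmersion {W Y : Scheme.{u}} (w : W ⟶ Y) [IsOpenImmersion w]
    [SmoothOfRelativeDimension 0 w] : IsZero (Omega.sheaf w) := by
  exact Groth.L12.StabLimit.isZero_of_rank_zero (Groth.L02.Canon.isFinLocFreeOfRank_omega (f := w) 0)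

/-- The conormal module does not see an open immersion after the immersion. -/
theorem nonempty_conormal_iso_of_comp {X W Y : Scheme.{u}} (i : X ⟶ W) (w : W ⟶ Y) [IsOpenImmersion w]
    (j : X ⟶ Y) [IsImmersion i] [IsImmersion j] [QuasiCompact i] [QuasiCompact j] (h : i ≫ w = j) :
    Nonempty (Omega.conormal j ≅ Omega.conormal i) := by
  haveI : SmoothOfRelativeDimension 0 w := inferInstance
  haveI : Smooth w := SmoothOfRelativeDimension.smooth 0 w
  obtain ⟨ψ, hψ, -⟩ := Groth.Agent.S9371.result i j w (𝟙 X) ((Category.id_comp j).trans h.symm)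
  obtain ⟨φ, hφ⟩ := Groth.L19.OmegaSh.exists_conormalDiff i (OmegaSh.dOmega w)
  obtain ⟨z, hz⟩ := Groth.Agent.S9711.result w i j h _ _ (Groth.L19.OmegaSh.isUniversal_dOmega (f := w)) ψ hψ φ hφ
  haveI : IsIso ψ := hz.isIso_f_iff.2
    ((Scheme.Modules.pullback i).map_isZero (isZero_omega_of_isOpenImmersion w))
  exact ⟨((Scheme.Modules.pullbackId X).app _).symm ≪≫ asIso ψ⟩

/-- The conormal module of a regular immersion is locally free of rank the codimension. -/
theorem isFinLocFreeOfRank_conormal {X Z : Scheme.{u}} (i : X ⟶ Z) [QuasiCompact i] {c : ℕ}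
    (hi : RegImm.IsRegularImmersionOfCodim .regular c i) : FlatMod.IsFinLocFreeOfRank c (Omega.conormal i) := by
  haveI := hi.1
  let W := i.coborderRange
  let i' := i.liftCoborder
  haveI : QuasiCompact i' := inferInstance
  obtain ⟨θ⟩ := nonempty_conormal_iso_of_comp i' W.ι i i.liftCoborder_ι
  have hi' : RegImm.IsRegularImmersionOfCodim .regular c i' := by
    refine ⟨inferInstance, fun z => ?_⟩
    obtain ⟨U, hzU, hcl, rs, hlen, hseq, hker⟩ := hi.2 z
    have hUW : U.1 ≤ W := fun y hy => by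
      show y ∈ (closure (Set.range i) \ Set.range i)ᶜ
      rintro ⟨hy1, hy2⟩
      haveI := hcl
      have hc : IsClosed (Set.range (i ∣_ U.1)) := (i ∣_ U.1).isClosedEmbedding.isClosed_range
      obtain ⟨O, hO, hOe⟩ := isOpen_induced_iff.1 hc.isOpen_compl
      have hyO : y ∈ O := hOe.ge (show (⟨y, hy⟩ : U.1.toScheme) ∈ (Set.range (i ∣_ U.1))ᶜ from fun ⟨a, ha⟩ =>
        hy2 ⟨a.1, by
          rw [← show U.1.ι ((i ∣_ U.1) a) = i a.1 from by
            rw [← Scheme.Hom.comp_apply, morphismRestrict_ι]; rfl, ha]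
          rfl⟩)
      obtain ⟨_, ⟨hOm, hUm⟩, a, rfl⟩ := mem_closure_iff.1 hy1 (O ∩ U.1) (hO.inter U.1.2) ⟨hyO, hy⟩
      exact (hOe.le hOm : (⟨i a, hUm⟩ : U.1.toScheme) ∈ (Set.range (i ∣_ U.1))ᶜ) ⟨⟨a, hUm⟩, U.1.ι.isOpenEmbedding.injective (by rw [← Scheme.Hom.comp_apply, morphismRestrict_ι]; rfl)⟩
    have hU' : IsAffineOpen (W.ι ⁻¹ᵁ U.1) :=
      U.2.preimage_of_isOpenImmersion W.ι (by rw [Scheme.Opens.opensRange_ι]; exact hUW)
    haveI : IsIso (W.ι.app U.1) := W.ι.isIso_app _ (by rw [Scheme.Opens.opensRange_ι]; exact hUW)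
    let e := (asIso (W.ι.app U.1)).commRingCatIsoToRingEquiv
    refine ⟨⟨_, hU'⟩, ?_, inferInstance, rs.map e, by rw [List.length_map, hlen], ?_, ?_⟩
    · show W.ι (i' z) ∈ U.1
      rw [← Scheme.Hom.comp_apply, i.liftCoborder_ι]
      exact hzU
    · exact (e.toAddEquiv.isRegular_congr (List.forall₂_map_right_iff.2
        (List.forall₂_same.2 fun r _ x => map_mul e r x))).1 hseq
    · have hd : i.app U.1 = W.ι.app U.1 ≫ i'.app (W.ι ⁻¹ᵁ U.1) ≫ X.presheaf.map (eqToHom (by
          rw [← Scheme.Hom.comp_preimage, i.liftCoborder_ι])).op := by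
        rw [Scheme.Hom.congr_app i.liftCoborder_ι.symm U.1, Scheme.Hom.comp_app, Category.assoc]
      set m := X.presheaf.map (eqToHom (show i ⁻¹ᵁ U.1 = i' ⁻¹ᵁ W.ι ⁻¹ᵁ U.1 by
        rw [← Scheme.Hom.comp_preimage, i.liftCoborder_ι])).op
      have hm : Function.Injective m := (ConcreteCategory.bijective_of_isIso m).1
      rw [show Ideal.ofList (rs.map e) = Ideal.map e (Ideal.ofList rs) from (Ideal.map_ofList e.toRingHom rs).symm, ← hker]
      ext a
      obtain ⟨b, rfl⟩ := e.surjective a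
      rw [show e b ∈ Ideal.map e (RingHom.ker (i.app U.1).hom) ↔ b ∈ RingHom.ker (i.app U.1).hom from
        by rw [← Ideal.comap_symm, Ideal.mem_comap]; simp]
      simp only [RingHom.mem_ker]
      rw [hd]
      show i'.app _ (W.ι.app U.1 b) = 0 ↔ m (i'.app _ (W.ι.app U.1 b)) = 0
      exact ⟨fun h => by rw [h, map_zero], fun h => hm (h.trans (map_zero _).symm)⟩
  haveI := hi'.1
  have h' : FlatMod.IsFinLocFreeOfRank c (Omega.conormal i') := Groth.L12.FinCov.isFinLocFreeOfRank_of_bases fun z => by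
    obtain ⟨ch, hz⟩ := Groth.L22.FLI.exists_chart i' hi' z
    exact ⟨i' ⁻¹ᵁ ch.U.1, ch.cl, hz, ch.isBasisS_cl⟩
  intro z
  obtain ⟨U, hz, ⟨e⟩⟩ := h' z
  exact ⟨U, hz, ⟨(Scheme.Modules.restrictFunctor U.ι).mapIso θ ≪≫ e⟩⟩

end Groth.L13.Canon
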