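import Groth.Agent.L13.Canon.DualTwists
import Groth.Agent.L22.ExtSh.ClosedDual
import Groth.Agent.L22.ExtSh.TwistDual
import Groth.Agent.L22.Inter.Fga

/-!
# A coherent dualizing pair on every projective scheme over a field
-/

set_option autoImplicit false
set_option linter.style.haveILetI false
set_option backward.isDefEq.respectTransparency.types false
set_option backward.isDefEq.respectTransparency false
set_option maxHeartbeats 800000

universe u

open CategoryTheory CategoryTheory.Limits CategoryTheory.Abelian AlgebraicGeometry TopologicalSpace Opposite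
open scoped ZeroObject

noncomputable section

namespace Groth.L13.DualProjective

open Groth.L16.HomSh (homMod homModF tensorHomAdj)

/-- Ext sheaves out of the structure sheaf of a closed subscheme are direct images. -/
theorem exists_push_iso_extSh {X P : Scheme.{u}} (ι : X ⟶ P) [IsClosedImmersion ι]
    [ModSite.HasSheafHom (O := P.sheaf) ((Scheme.Modules.pushforward ι).obj (Coh.structureModule X))]
    [HasInjectiveResolutions (ModSite.Mod P.sheaf)] (G : P.Modules) (c : ℕ) :
    ∃ ω : X.Modules, Nonempty ((Scheme.Modules.pushforward ι).obj ω ≅ (ModSite.extSh (O := P.sheaf)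
      ((Scheme.Modules.pushforward ι).obj (Coh.structureModule X)) c).obj G) := by
  haveI : HasInjectiveResolutions P.Modules := ‹HasInjectiveResolutions (ModSite.Mod P.sheaf)›
  haveI : Dual3.HasHomO ι := Groth.L17.ClosedPush.isLeftAdjoint_push ι
  let push := Scheme.Modules.pushforward ι
  let adj := Dual3.homOAdj ι
  let A := push.obj (Coh.structureModule X)
  haveI := (Scheme.Modules.pullbackPushforwardAdjunction ι).isRightAdjoint
  haveI : PreservesFiniteLimits push := inferInstance
  haveI : PreservesFiniteColimits push := inferInstance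
  haveI : push.Additive := adj.left_adjoint_additive
  haveI := Groth.L22.ExtSh.additive_homModF A
  let I := injectiveResolution G
  haveI : (Dual3.homO ι).Additive := adj.right_adjoint_additive
  let J := ((Dual3.homO ι).mapHomologicalComplex _).obj I.cocomplex
  obtain ⟨κ⟩ := Groth.L22.DualSheaf.nonempty_homO_push ι
  obtain ⟨e⟩ := Groth.L22.ExtSh.nonempty_extSh_iso A G c
  exact ⟨J.homology c, ⟨(e ≪≫ I.isoRightDerivedObj (homModF A) c ≪≫
      (HomologicalComplex.homologyFunctor P.Modules (ComplexShape.up ℕ) c).mapIso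
        ((NatIso.mapHomologicalComplex κ.symm (ComplexShape.up ℕ)).app I.cocomplex) ≪≫
      (J.sc c).mapHomologyIso push).symm⟩⟩

/-- A projective scheme of dimension at most `r` over a field has a coherent `r`-dualizing pair. -/
theorem exists_isRDualOver {k : Type u} [Field k] {n : ℕ} (r : ℕ)
    {X : Scheme.{u}} [X.Over (Spec (CommRingCat.of k))]
    (ι : X ⟶ CohB1.ProjSpace n k) [IsClosedImmersion ι]
    (hι : ι ≫ CohB1.ProjSpace.toSpec n k = X ↘ Spec (CommRingCat.of k))
    (hdim : topologicalKrullDim ↥X ≤ (r : WithBot ℕ∞)) :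
    ∃ (ω : X.Modules) (tr : Coh.HH X ω r →ₗ[k] k), Coh.IsCoh ω ∧ Canon.IsRDualOver k X r ω tr := by
  haveI := Groth.L22.PDual.proper n k
  haveI := Groth.L21.RR.isNoetherian_of_proper (X := CohB1.ProjSpace n k) k
  haveI : IsLocallyNoetherian X := LocallyOfFiniteType.isLocallyNoetherian ι
  haveI : IsProper (X ↘ Spec (CommRingCat.of k)) := by
    rw [← hι]
    exact (inferInstance : IsProper (ι ≫ (CohB1.ProjSpace n k ↘ Spec (CommRingCat.of k))))
  haveI := Groth.L21.RR.isNoetherian_of_proper (X := X) k
  have hfib : ∀ y, topologicalKrullDim ↥((X ↘ Spec (CommRingCat.of k)).fiber y) ≤ (r : WithBot ℕ∞) := fun y =>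
    ((X ↘ Spec (CommRingCat.of k)).fiberι y).isEmbedding.isInducing.topologicalKrullDim_le.trans hdim
  by_cases hr : r ≤ n
  · let O := (Scheme.Modules.pushforward ι).obj (Coh.structureModule X)
    haveI : ModSite.HasSheafHom (O := (CohB1.ProjSpace n k).sheaf) O := Groth.L17.Duality.hasSheafHom O
    haveI := Groth.L17.PushQCoh.hasInjectiveResolutions (CohB1.ProjSpace n k)
    haveI : HasInjectiveResolutions (ModSite.Mod (CohB1.ProjSpace n k).sheaf) :=
      ‹HasInjectiveResolutions (CohB1.ProjSpace n k).Modules›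
    obtain ⟨ω, hω⟩ := exists_push_iso_extSh ι (Twist.twistProjSpace n k (-((n : ℤ) + 1))) (n - r)
    have hO : Coh.IsCoh ((Coh.push ι).obj (Coh.structureModule X)) :=
      Groth.L16.CohClosedPush.isCoh_push ι Groth.L16.CohClosedPush.isCoh_structure
    have hωc : Coh.IsCoh ω := by
      obtain ⟨e⟩ := hω
      exact Groth.L22.ExtSh.isCoh_of_push ι (Groth.L16.CohSupport.isCoh_of_iso e.symm
        (Groth.L22.ExtSh.isCoh_extSh hO (Groth.L22.PDual.isCoh_O _) (n - r)))
    obtain ⟨t, ht⟩ := Groth.L22.ClosedDual.exists_trace ι hι (show r + (n - r) = n by omega)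
      (le_trans (add_le_add hdim le_rfl) (by rw [← Nat.cast_add, show r + (n - r) = n by omega])) hω
    refine ⟨ω, t, hωc, Groth.L13.DualTwists.isRDualOver_of_twists k t ι hι hfib hωc.1 fun m => ?_⟩
    have hc : Coh.IsCoh ((Scheme.Modules.pullback ι).obj (Twist.twistProjSpace n k m)) :=
      Groth.L16.ProperFinite.isCoh_of_isInvertible
        (Groth.L18.Ample.isInvertible_pullback ι (Groth.L16.ProjTwist.isInvertible_twistProjSpace n k m))
    refine ⟨fun φ φ' h => ?_, fun ψ => ?_⟩
    · exact (ht _ hc (Canon.dualityMap k X r ω t _ φ)).unique (fun _ => rfl) fun x => LinearMap.congr_fun h x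
    · obtain ⟨φ, hφ, -⟩ := ht _ hc ψ
      exact ⟨φ, LinearMap.ext fun x => (hφ x).symm⟩
  · have hlt : topologicalKrullDim ↥X ≤ (n : WithBot ℕ∞) :=
      (ι.isClosedEmbedding.isEmbedding.isInducing.topologicalKrullDim_le).trans
        (Groth.L16.ProjSpace.topologicalKrullDim_eq_of_field n k).le
    have hz : ∀ F : X.Modules, Subsingleton (Coh.HH X F r) := fun F =>
      Groth.L22.Inter.subsingleton_HH_of_dim hlt F (Nat.lt_of_not_le hr)
    have h0 : Coh.IsCoh (0 : X.Modules) := by
      haveI := (Groth.L16.CohClosedPush.isCoh_structure (X := X)).1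
      refine Groth.L16.CohSupport.isCoh_of_iso (IsZero.iso ?_ (isZero_zero _))
        (Groth.L16.CohSupport.isCoh_kernel Groth.L16.CohClosedPush.isCoh_structure
          (𝟙 (Coh.structureModule X)))
      exact IsZero.of_iso (isZero_zero _) (kernel.ofMono _)
    refine ⟨0, 0, h0, h0.1, fun F hF => ⟨fun φ φ' _ => (isZero_zero X.Modules).eq_of_tgt _ _, fun ψ => ?_⟩⟩
    exact ⟨0, LinearMap.ext fun x => by rw [(hz F).elim x 0, map_zero, map_zero]⟩

end Groth.L13.DualProjective
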