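import Groth.Prelude.Def_Canon
import Groth.Agent.L18.AmpleFamilyQuot
import Groth.Agent.L18.AmplePull
import Groth.Agent.L16.ProjSpace.Ample
import Groth.Agent.L16.ProjSpace.AmpleIff
import Groth.Agent.L03.BlowAcyc.Twists
import Groth.Agent.L12.GenusZero.Basic
import Groth.Agent.L12.GenusZero.Main
import Groth.Agent.L12.GenusZero.Coprod
import Groth.Agent.L22.Inter.Push
import Groth.Agent.L19.VanishFibre.Noetherian

/-!
# Duality is detected on twists

On a closed subscheme of projective space every quasi-coherent module is a quotient of a direct sum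
of twists, so a pair which is dual on twists is dual on all quasi-coherent modules.
-/

set_option autoImplicit false
set_option linter.style.haveILetI false
set_option backward.isDefEq.respectTransparency.types false
set_option backward.isDefEq.respectTransparency false
set_option maxHeartbeats 800000

universe u

open CategoryTheory CategoryTheory.Limits AlgebraicGeometry TopologicalSpace Opposite MonoidalCategory TensorProduct

noncomputable section

namespace Groth.L13.DualTwists

attribute [local instance] CategoryTheory.Abelian.hasFiniteBiproducts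

open Groth.L18.Frame (rs ro rs_rs ro_ro rs_smul ro_self rs_self IsFrame)
open Groth.L18.GenLoc Groth.L18.SecTwistExt
open Groth.L20.ResDescent (isFinLocFree_of_isInvertible isFrame_epow tens_injective eq_zero_of_affine)
open Groth.L00.Tensor (tensorIso)

variable {X : Scheme.{u}}

/-- A quasi-coherent module is a quotient of a direct sum of inverses of powers of an ample module. -/
theorem exists_epi_sigma {L : X.Modules} (hL : CohB1.IsAmple L) (E : ℕ → X.Modules)
    (hE : ∀ d, PicF.IsInvertible (E d))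
    (he : ∀ d, Nonempty (CohB1.tensorMod (CohB1.tensorPow L d) (E d) ≅ Coh.structureModule X))
    [QuasiSeparatedSpace X] (M : X.Modules) [Coh.IsQCoh M] :
    ∃ (I : Type u) (d : I → ℕ) (g : ∀ i, E (d i) ⟶ M), Epi (Sigma.desc g) := by
  classical
  haveI := hL.2.1
  choose p s hx hs using hL.2.2
  let L' : X → X.Modules := fun x => CohB1.tensorPow L (p x + 1)
  have hL' : ∀ x, PicF.IsInvertible (L' x) := fun x => Groth.L18.Ample.isInvertible_tensorPow hL.1 _
  let I := Σ x : X, Γ(M, CohB1.genLocus _ (s x))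
  choose d hd t' ht' using fun i : I => exists_twist_extend (s i.1) M (hL' i.1) i.2
  let N : I → X.Modules := fun i => CohB1.tensorPow (L' i.1) (d i)
  have hN : ∀ i, FlatMod.IsFinLocFree (N i) := fun i =>
    isFinLocFree_of_isInvertible (Groth.L18.Ample.isInvertible_tensorPow (hL' i.1) _)
  let D : I → ℕ := fun i => (p i.1 + 1) * d i
  let e : ∀ i, CohB1.tensorMod (N i) (E (D i)) ≅ Coh.structureModule X := fun i =>
    tensorIso (Groth.L00.Tensor.tensorPowMul L (p i.1 + 1) (d i)) (Iso.refl _) ≪≫ (he _).some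
  haveI : ∀ i, (Groth.L00.Tensor.tensorRightF (N i)).IsRightAdjoint := fun i =>
    haveI : ModSite.HasSheafHom (O := X.sheaf) (N i) := Groth.L17.Duality.hasSheafHom (N i)
    (Groth.L17.Duality.dualAdj (N i) (hN i)).isRightAdjoint
  haveI : ∀ i, (Groth.L00.Tensor.tensorRightF (E (D i))).IsRightAdjoint := fun i =>
    haveI : ModSite.HasSheafHom (O := X.sheaf) (E (D i)) := Groth.L17.Duality.hasSheafHom (E (D i))
    (Groth.L17.Duality.dualAdj (E (D i)) (isFinLocFree_of_isInvertible (hE _))).isRightAdjoint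
  let g : ∀ i, Coh.structureModule X ⟶ CohB1.tensorMod M (N i) := fun i =>
    Groth.L16.homOfSection (CohB1.tensorMod M (N i)) (t' i)
  let h : ∀ i, E (D i) ⟶ M := fun i => (Groth.L00.Tensor.tensorUnitLeft (E (D i))).inv ≫
    (Groth.L00.Tensor.tensorRightF (E (D i))).map (g i) ≫ (Groth.L22.Reg.cI (e i) M).hom
  refine ⟨I, D, h, Abelian.epi_of_cokernel_π_eq_zero _ ?_⟩
  let π : (∐ fun i => E (D i)) ⟶ M := Sigma.desc h
  let c := cokernel.π π
  have hker : ∀ i, h i ≫ c = 0 := fun i => by
    have := congrArg (Sigma.ι (fun i => E (D i)) i ≫ ·) (cokernel.condition π)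
    simpa only [π, Sigma.ι_desc_assoc, comp_zero] using this
  refine eq_zero_of_affine c fun y => ⟨CohB1.genLocus _ (s y), hs y, hx y, fun m => ?_⟩
  let i : I := ⟨y, m⟩
  let G := CohB1.genLocus _ (s y)
  have h1 : g i ≫ (Groth.L00.Tensor.tensorRightF (N i)).map c = 0 := by
    have h2 : (Groth.L00.Tensor.tensorRightF (E (D i))).map (g i ≫ Groth.L00.Tensor.tensorMap c (𝟙 (N i))) = 0 := by
      have h3 := hker i
      simp only [h, Category.assoc] at h3
      rw [← cancel_epi (Groth.L00.Tensor.tensorUnitLeft (E (D i))).inv,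
        ← cancel_mono (Groth.L22.Reg.cI (e i) (cokernel π)).hom, Functor.map_comp, Category.assoc, Category.assoc,
        Groth.L22.Reg.cI_natural (e i) c, comp_zero, zero_comp]
      exact h3
    let e' : CohB1.tensorMod (E (D i)) (N i) ≅ Coh.structureModule X := Groth.L00.Tensor.tensorComm _ _ ≪≫ e i
    have h4 := Groth.L22.Reg.cI_natural e' (g i ≫ Groth.L00.Tensor.tensorMap c (𝟙 (N i)))
    rw [show Groth.L00.Tensor.tensorMap (g i ≫ Groth.L00.Tensor.tensorMap c (𝟙 (N i))) (𝟙 (E (D i))) = 0 from h2,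
      Functor.map_zero, zero_comp] at h4
    exact (cancel_epi _).1 (h4.symm.trans comp_zero.symm)
  have h3 : (Groth.L00.Tensor.tensorMap c (𝟙 (N i))).app ⊤ (t' i) = 0 := by
    have h4 := congr($(congrArg (fun k => Scheme.Modules.Hom.app k ⊤) h1) (1 : Γ(X, ⊤)))
    refine Eq.trans ?_ h4
    exact (congrArg ((Groth.L00.Tensor.tensorMap c (𝟙 (N i))).app ⊤) (secOf_homOfSection (t' i))).symm
  have h5 : tens (cokernel π) (N i) G (c.app G m) (epow (rs (L' y) le_top (secOf (s y))) (d i)) = 0 := by
    have h6 := congrArg (rs (CohB1.tensorMod (cokernel π) (N i)) (le_top : G ≤ ⊤)) h3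
    rw [← Groth.L19.ProjBdl.app_rs] at h6
    refine Eq.trans ?_ (h6.trans (map_zero _))
    refine Eq.trans ?_ (congrArg ((Groth.L00.Tensor.tensorMap c (𝟙 (N i))).app G) (ht' i)).symm
    refine Eq.trans ?_ (Groth.L17.ClosedPush.tensorMap_unit c (𝟙 (N i)) G m (SecTwist.pow (s y) (d i) G)).symm
    exact congrArg (tens (cokernel π) (N i) G (c.app G m)) (pow_eq (s y) G (d i)).symm
  refine tens_injective (hN i) (cokernel π) (isFrame_epow (isFrame_genLocus (s y)) (d i)) ?_
  show tens _ _ G (c.app G m) _ = tens _ _ G 0 _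
  rw [h5, ← zero_smul Γ(X, G) (0 : Γ(cokernel π, G)), tens_smul_left, zero_smul]

/-- On a closed subscheme of projective space quasi-coherent modules are quotients of sums of twists. -/
theorem exists_epi_sigma_twists {A : Type u} [CommRing A] {n : ℕ} (ι : X ⟶ CohB1.ProjSpace n A)
    [IsClosedImmersion ι] [QuasiSeparatedSpace X] (M : X.Modules) [Coh.IsQCoh M] :
    ∃ (I : Type u) (m : I → ℤ) (g : ∀ i, (Scheme.Modules.pullback ι).obj (Twist.twistProjSpace n A (m i)) ⟶ M),
      Epi (Sigma.desc g) := by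
  let O : ℤ → X.Modules := fun d => (Scheme.Modules.pullback ι).obj (Twist.twistProjSpace n A d)
  have hcov := Groth.L03.BlowAcyc.cover_deg_one (n := n) (R := A)
  have hamp : CohB1.IsAmple (O 1) :=
    Groth.L18.Ample.isAmple_pullback_of_isAffineHom ι
      (Groth.L16.ProjTwist.isAmple_twist (CohB1.polyGrading n A) one_pos
        (fun i : Fin (n + 1) => ⟨_, Groth.L16.ProjSpace.X_mem n A i⟩) (top_le_iff.1 fun x _ => by
          obtain ⟨i, hi⟩ := Groth.L16.ProjSpace.exists_mem_basicOpen_X n A x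
          exact Opens.mem_iSup.2 ⟨i, hi⟩))
  have hinv : ∀ d : ℤ, PicF.IsInvertible (O d) := fun d =>
    Groth.L18.Ample.isInvertible_pullback ι (Groth.L16.ProjTwist.isInvertible_twistProjSpace n A d)
  have he : ∀ d : ℕ, Nonempty (CohB1.tensorMod (CohB1.tensorPow (O 1) d) (O (-(d : ℤ))) ≅ Coh.structureModule X) := by
    intro d
    obtain ⟨e₁⟩ := Groth.L16.ProjTwist.nonempty_tensorPow_twist_iso (CohB1.polyGrading n A) 1 hcov d
    obtain ⟨e₂⟩ := Groth.L16.ProjTwist.nonempty_tensor_twist_iso_one (CohB1.polyGrading n A) hcov ((d : ℤ) * 1) (-(d : ℤ))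
    obtain ⟨z⟩ := Groth.L16.ProjTwist.nonempty_twist_zero_iso (CohB1.polyGrading n A)
    let p : (Scheme.Modules.pullback ι).obj (CohB1.tensorPow (Twist.twistProjSpace n A 1) d) ≅
        CohB1.tensorPow (O 1) d := Groth.L18.Ample.pullPow ι _ d
    exact ⟨tensorIso (p.symm ≪≫ (Scheme.Modules.pullback ι).mapIso e₁) (Iso.refl _) ≪≫
      Groth.L29.DC.PullTensor.pullTensor ι _ _ ≪≫
      (Scheme.Modules.pullback ι).mapIso (e₂ ≪≫ eqToIso (by simp) ≪≫ z) ≪≫
      Groth.L29.LocFree.pullbackUnitIso ι⟩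
  obtain ⟨I, d, g, hg⟩ := exists_epi_sigma hamp (fun d => O (-(d : ℤ))) (fun d => hinv _) he M
  exact ⟨I, fun i => -(d i : ℤ), g, hg⟩

section Dual

open Groth.L16.CohLinear (hmap hmap_comp hmap_id exact_hmap_hmap exact_hmap_delta)

variable (A : Type u) [CommRing A] [X.Over (Spec (CommRingCat.of A))] {r : ℕ} {ω : X.Modules}
  (tr : Coh.HH X ω r →ₗ[A] A)

theorem HHlin_apply {F G : X.Modules} (φ : F ⟶ G) (z : Coh.HH X F r) :
    Canon.HHlin A φ r z = hmap φ r z := rfl

theorem dualityMap_apply {F : X.Modules} (φ : F ⟶ ω) (z : Coh.HH X F r) :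
    Canon.dualityMap A X r ω tr F φ z = tr (hmap φ r z) := rfl

/-- Duality passes to direct sums. -/
theorem bijective_sigma [CompactSpace X] [QuasiSeparatedSpace X] {I : Type u} (M : I → X.Modules)
    (h : ∀ i, Function.Bijective (Canon.dualityMap A X r ω tr (M i))) :
    Function.Bijective (Canon.dualityMap A X r ω tr (∐ M)) := by
  classical
  refine ⟨fun φ φ' hφ => ?_, fun ψ => ?_⟩
  · refine Sigma.hom_ext _ _ fun i => (h i).1 (LinearMap.ext fun z => ?_)
    rw [dualityMap_apply, dualityMap_apply, hmap_comp, hmap_comp]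
    exact LinearMap.congr_fun hφ (hmap (Sigma.ι M i) r z)
  · choose φ hφ using fun i => (h i).2 (ψ ∘ₗ Canon.HHlin A (Sigma.ι M i) r)
    refine ⟨Sigma.desc φ, LinearMap.ext fun x => ?_⟩
    have hgen : ∀ (i : I) (z : Coh.HH X (M i) r),
        tr (hmap (Sigma.desc φ) r (hmap (Sigma.ι M i) r z)) = ψ (hmap (Sigma.ι M i) r z) := fun i z => by
      rw [← hmap_comp, Sigma.ι_desc]
      exact LinearMap.congr_fun (hφ i) z
    obtain ⟨S, y, rfl⟩ := Groth.L12.GenusZero.exists_finset_hmap M r x
    let M' : S → X.Modules := fun s => M s.1.as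
    let e : (⨁ M') ≅ ∐ M' := biproduct.isoCoproduct M'
    rw [dualityMap_apply]
    have hy : y = ∑ s : S, hmap (Sigma.ι M' s) r (hmap (biproduct.π M' s) r (hmap e.inv r y)) := by
      have h0 : hmap e.hom r (hmap e.inv r y) = y := by rw [← hmap_comp, e.inv_hom_id, hmap_id]
      conv_lhs => rw [← h0, Groth.L12.GenusZero.hh_biproduct M' r (hmap e.inv r y), map_sum]
      refine Finset.sum_congr rfl fun s _ => ?_
      rw [← hmap_comp (biproduct.ι M' s) e.hom]
      congr 1
      simp [e]
    rw [hy, map_sum, map_sum, map_sum, map_sum]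
    refine Finset.sum_congr rfl fun s _ => ?_
    rw [← hmap_comp (Sigma.ι M' s), Sigma.ι_desc]
    exact hgen s.1.as _

/-- Duality on twists gives duality on all quasi-coherent modules, once `H^{r+1}` vanishes on them. -/
theorem isRDualOver_of_twists' {n : ℕ} (ι : X ⟶ CohB1.ProjSpace n A) [IsClosedImmersion ι]
    [CompactSpace X] [QuasiSeparatedSpace X]
    (hvan : ∀ M : X.Modules, Coh.IsQCoh M → Subsingleton (Coh.HH X M (r + 1)))
    (hω : Coh.IsQCoh ω)
    (h : ∀ m : ℤ, Function.Bijective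
      (Canon.dualityMap A X r ω tr ((Scheme.Modules.pullback ι).obj (Twist.twistProjSpace n A m)))) :
    Canon.IsRDualOver A X r ω tr := by
  refine ⟨hω, fun F hF => ?_⟩
  haveI := hF
  obtain ⟨I, m, g, hg⟩ := exists_epi_sigma_twists ι F
  have hP : Coh.IsQCoh (∐ fun i => (Scheme.Modules.pullback ι).obj (Twist.twistProjSpace n A (m i))) :=
    Groth.L00.AlgQCoh.isQCoh_sigma _ fun i =>
      Groth.L21.Extend.isQCoh_of_isInvertible
        (Groth.L18.Ample.isInvertible_pullback ι (Groth.L16.ProjTwist.isInvertible_twistProjSpace n A (m i)))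
  have hbij := bijective_sigma A tr _ fun i => h (m i)
  haveI hK : Coh.IsQCoh (kernel (Sigma.desc g)) :=
    (Groth.L00.AlgQCoh.isQCoh_kernel_cokernel (Sigma.desc g) hP hF).1
  obtain ⟨I', m', g', hg'⟩ := exists_epi_sigma_twists ι (kernel (Sigma.desc g))
  have hbij' := bijective_sigma A tr _ fun i => h (m' i)
  let q := Sigma.desc g
  let q' := Sigma.desc g'
  have hS : (ShortComplex.mk (kernel.ι q) q (kernel.condition q)).ShortExact :=
    { exact := ShortComplex.exact_of_f_is_kernel _ (kernelIsKernel q), epi_g := hg }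
  have hsurj : Function.Surjective (hmap q r) := fun y => by
    haveI : Subsingleton (Coh.HH X (kernel q) (r + 1)) := hvan _ hK
    exact (exact_hmap_delta hS r y).1 (Subsingleton.elim _ _)
  refine ⟨fun φ φ' hφ => ?_, fun ψ => ?_⟩
  · refine (cancel_epi q).1 (hbij.1 (LinearMap.ext fun z => ?_))
    rw [dualityMap_apply, dualityMap_apply, hmap_comp, hmap_comp]
    exact LinearMap.congr_fun hφ (hmap q r z)
  · obtain ⟨φ₀, hφ₀⟩ := hbij.2 (ψ ∘ₗ Canon.HHlin A q r)
    have hz : kernel.ι q ≫ φ₀ = 0 := by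
      refine (cancel_epi q').1 (hbij'.1 (LinearMap.ext fun z => ?_))
      rw [comp_zero, dualityMap_apply, dualityMap_apply, Groth.L21.RR.hmap_zero, map_zero, hmap_comp, hmap_comp]
      refine (LinearMap.congr_fun hφ₀ _).trans ?_
      show ψ (hmap q r (hmap (kernel.ι q) r _)) = 0
      rw [← hmap_comp, kernel.condition, Groth.L21.RR.hmap_zero, map_zero]
    let φ : F ⟶ ω := hS.exact.gIsCokernel.desc (CokernelCofork.ofπ φ₀ hz)
    have hφ : q ≫ φ = φ₀ := hS.exact.gIsCokernel.fac (CokernelCofork.ofπ φ₀ hz) WalkingParallelPair.one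
    refine ⟨φ, LinearMap.ext fun y => ?_⟩
    obtain ⟨z, rfl⟩ := hsurj y
    rw [dualityMap_apply, ← hmap_comp, hφ]
    exact LinearMap.congr_fun hφ₀ z

/-- Duality on twists gives duality on all quasi-coherent modules. -/
theorem isRDualOver_of_twists [IsNoetherianRing A] {n : ℕ} (ι : X ⟶ CohB1.ProjSpace n A) [IsClosedImmersion ι]
    (hι : ι ≫ CohB1.ProjSpace.toSpec n A = X ↘ Spec (CommRingCat.of A))
    (hfib : ∀ y : ↥(Spec (CommRingCat.of A)),
      topologicalKrullDim ↥((X ↘ Spec (CommRingCat.of A)).fiber y) ≤ (r : WithBot ℕ∞))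
    (hω : Coh.IsQCoh ω)
    (h : ∀ m : ℤ, Function.Bijective
      (Canon.dualityMap A X r ω tr ((Scheme.Modules.pullback ι).obj (Twist.twistProjSpace n A m)))) :
    Canon.IsRDualOver A X r ω tr := by
  haveI : IsProper (CohB1.ProjSpace.toSpec n A) := Groth.L16.ProjSpace.isProper_toSpec n A
  haveI : IsProper (X ↘ Spec (CommRingCat.of A)) := hι ▸ inferInstanceAs (IsProper (ι ≫ CohB1.ProjSpace.toSpec n A))
  haveI : IsNoetherianRing (CommRingCat.of A) := ‹IsNoetherianRing A›
  haveI := Groth.L12.GenusZero.isNoetherian_of_proper_over (X := X) (A := A)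
  refine isRDualOver_of_twists' A tr ι (fun M hM => ?_) hω h
  haveI := hM
  exact Groth.L19.VanishFibre.subsingleton_HH_of_fibre_dim_le (R := CommRingCat.of A)
    (X ↘ Spec (CommRingCat.of A)) (d := r) hfib M (Nat.lt_succ_self r)

end Dual

end Groth.L13.DualTwists
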