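import Groth.Agent.L01.Regular
import Groth.Agent.L07.RegSpread
import Groth.Agent.L07.KoszulIdeal
import Mathlib.RingTheory.KrullDimension.Regular
import Mathlib.AlgebraicGeometry.AffineScheme

/-!
# Generators of ideals containing a parameter
-/

set_option autoImplicit false
universe u

open IsLocalRing

namespace Groth.L13.Canon

/-- An ideal on `c + 1` generators containing an element outside `m²` is generated by it and `c` others. -/
theorem exists_complement {A : Type u} [CommRing A] [IsLocalRing A] {c : ℕ} (g : Fin (c + 1) → A)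
    (hg : ∀ i, g i ∈ maximalIdeal A) {π : A} (hπ : π ∈ Ideal.span (Set.range g))
    (h2 : π ∉ maximalIdeal A ^ 2) :
    ∃ f : Fin c → A, Ideal.span (Set.range g) = Ideal.span {π} ⊔ Ideal.span (Set.range f) := by
  obtain ⟨a, ha⟩ := Ideal.mem_span_range_iff_exists_fun.1 hπ
  obtain ⟨i, hi⟩ : ∃ i, IsUnit (a i) := by
    by_contra! hall
    refine h2 ?_
    rw [← ha, pow_two]
    exact Submodule.sum_mem _ fun i _ => Ideal.mul_mem_mul (hall i) (hg i)
  refine ⟨g ∘ i.succAbove, le_antisymm (Ideal.span_le.2 ?_) (sup_le ?_ (Ideal.span_le.2 ?_))⟩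
  · rintro _ ⟨j, rfl⟩
    rcases eq_or_ne j i with rfl | hj
    · obtain ⟨u, hu⟩ := hi
      have h : g j = ↑u⁻¹ * (π - ∑ k, a (j.succAbove k) * g (j.succAbove k)) := by
        rw [← ha, Fin.sum_univ_succAbove _ j, add_sub_cancel_right, ← hu, Units.inv_mul_cancel_left]
      rw [SetLike.mem_coe, h]
      exact Ideal.mul_mem_left _ _ (Ideal.sub_mem _ (Ideal.mem_sup_left (Ideal.mem_span_singleton_self π))
        (Submodule.sum_mem _ fun k _ => Ideal.mul_mem_left _ _
          (Ideal.mem_sup_right (Ideal.subset_span ⟨k, rfl⟩))))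
    · obtain ⟨k, rfl⟩ := Fin.exists_succAbove_eq hj
      exact Ideal.mem_sup_right (Ideal.subset_span ⟨k, rfl⟩)
  · exact (Ideal.span_singleton_le_iff_mem _).2 hπ
  · rintro _ ⟨k, rfl⟩
    exact Ideal.subset_span ⟨_, rfl⟩

/-- A parameter with regular quotient of smaller dimension lies outside `m²`. -/
theorem notMem_sq_of_quotient {A : Type u} [CommRing A] [IsRegularLocalRing A] {x : A}
    (hx : x ∈ maximalIdeal A) [IsRegularLocalRing (A ⧸ Ideal.span {x})]
    (hdim : ringKrullDim (A ⧸ Ideal.span {x}) + 1 = ringKrullDim A) : x ∉ maximalIdeal A ^ 2 := by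
  intro h2
  obtain ⟨J, hJ1, hJ2⟩ : ∃ J : Ideal A, J.spanFinrank ≤ (maximalIdeal (A ⧸ Ideal.span {x})).spanFinrank ∧
      maximalIdeal A = J ⊔ Ideal.span {x} := by
    classical
    have fg : (maximalIdeal (A ⧸ Ideal.span {x})).FG := Ideal.fg_of_isNoetherianRing _
    let t : Set A := Function.surjInv Ideal.Quotient.mk_surjective '' (maximalIdeal (A ⧸ Ideal.span {x})).generators
    have htfin : t.Finite := (Submodule.FG.finite_generators fg).image _
    refine ⟨Ideal.span t, (Submodule.spanFinrank_span_le_ncard_of_finite htfin).trans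
      ((Set.ncard_image_le (Submodule.FG.finite_generators fg)).trans_eq (Submodule.FG.generators_ncard fg)), ?_⟩
    rw [← Groth.L01.maximalIdeal_eq_span_insert hx (s := t) (by
      rw [← Set.image_comp, (funext (Function.surjInv_eq _) :
        Ideal.Quotient.mk (Ideal.span {x}) ∘ Function.surjInv Ideal.Quotient.mk_surjective = id), Set.image_id]
      exact Submodule.span_generators _), Ideal.span_insert, sup_comm]
  have hle : maximalIdeal A ≤ J := Groth.L01.maximalIdeal_le_of_le_sup_sq
    (hJ2.le.trans (sup_le le_sup_left ((Ideal.span_singleton_le_iff_mem _).2 (Ideal.mem_sup_right h2))))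
  have hJ : J = maximalIdeal A := le_antisymm (hJ2 ▸ le_sup_left) hle
  subst hJ
  obtain ⟨n, hn⟩ : ∃ n : ℕ, (maximalIdeal (A ⧸ Ideal.span {x})).spanFinrank = n := ⟨_, rfl⟩
  rw [← IsRegularLocalRing.spanFinrank_maximalIdeal (R := A),
    ← IsRegularLocalRing.spanFinrank_maximalIdeal (R := A ⧸ Ideal.span {x}), hn] at hdim
  rw [hn] at hJ1
  have : n + 1 = (maximalIdeal A).spanFinrank := by exact_mod_cast hdim
  omega

/-- Generators at a prime are generators near it. -/
theorem exists_away_span {A : Type u} [CommRing A] (K : Ideal A) (hK : K.FG) (p : Ideal A) [p.IsPrime]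
    (S : Type u) [CommRing S] [Algebra A S] [IsLocalization.AtPrime S p] {c : ℕ} (f : Fin c → S)
    (hf : K.map (algebraMap A S) = Ideal.span (Set.range f)) :
    ∃ (g : A) (a : Fin c → A), g ∉ p ∧ ∀ (T : Type u) [CommRing T] [Algebra A T],
      IsUnit (algebraMap A T g) →
        K.map (algebraMap A T) = Ideal.span (Set.range fun i => algebraMap A T (a i)) := by
  have hmem : ∀ i, f i ∈ K.map (algebraMap A S) := fun i => hf ▸ Ideal.subset_span ⟨i, rfl⟩
  choose as has using fun i => (IsLocalization.mem_map_algebraMap_iff p.primeCompl S).1 (hmem i)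
  have hspan : Ideal.span (Set.range f) = Ideal.span (Set.range fun i => algebraMap A S (as i).1.1) := by
    refine le_antisymm (Ideal.span_le.2 ?_) (Ideal.span_le.2 ?_)
    · rintro _ ⟨i, rfl⟩
      obtain ⟨u, hu⟩ := IsLocalization.map_units S (as i).2
      rw [SetLike.mem_coe, show f i = algebraMap A S (as i).1.1 * ↑u⁻¹ by
        rw [← has i, ← hu, Units.mul_inv_cancel_right]]
      exact Ideal.mul_mem_right _ _ (Ideal.subset_span ⟨i, rfl⟩)
    · rintro _ ⟨i, rfl⟩
      show algebraMap A S (as i).1.1 ∈ _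
      rw [← has i]
      exact Ideal.mul_mem_right _ _ (Ideal.subset_span ⟨i, rfl⟩)
  let a : Fin c → A := fun i => (as i).1.1
  obtain ⟨g, hg, hgK⟩ := Groth.L07.RegSeq.exists_mul_mem_of_map_le (J := Ideal.span (Set.range a)) hK p S (by
    rw [hf, hspan, Ideal.map_span, ← Set.range_comp]; rfl)
  refine ⟨g, a, hg, fun T _ _ hu => le_antisymm (Ideal.map_le_iff_le_comap.2 fun y hy => ?_) (Ideal.span_le.2 ?_)⟩
  · have h := Ideal.mem_map_of_mem (algebraMap A T) (hgK y hy)
    rw [map_mul, Ideal.unit_mul_mem_iff_mem _ hu, Ideal.map_span, ← Set.range_comp] at h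
    exact h
  · rintro _ ⟨i, rfl⟩
    exact Ideal.mem_map_of_mem _ (as i).1.2

end Groth.L13.Canon
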