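import Groth.Agent.L13.Canon.VertAdjunct

/-!
# The canonical sheaf of a vertical curve
-/

set_option autoImplicit false
set_option backward.isDefEq.respectTransparency false
set_option linter.style.haveILetI false
universe u

open CategoryTheory CategoryTheory.Limits AlgebraicGeometry

namespace Groth.L13.Canon

variable {R : Type u} [CommRing R] [IsDomain R] [IsDiscreteValuationRing R]

theorem nonempty_iso_canonical_vert {X : Over (Spec (CommRingCat.of R))} (hX : ArSurf.IsArithSurface R X)
    (E : ArSurf.VertComp R X) {L : X.left.Modules} (hL : ClSub.IsInverseOf L (ClSub.idealMod E.ι.ker))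
    {ω : X.left.Modules} (hω : Canon.IsCanonical X.hom ω) {ωE : E.curve.left.Modules}
    (hωE : Canon.IsCanonical E.curve.hom ωE) :
    Nonempty (ωE ≅ (Scheme.Modules.pullback E.ι).obj (CohB1.tensorMod L ω)) := by
  obtain ⟨N, c, ιk, -, hιcl, hιk, hregk, -, -, hvia⟩ := exists_canonicalVia_vert hX E hL hω
  haveI := hιcl
  obtain ⟨Z, i, g, c', n', hig, hi, hg, hiqc, hgqs, hvia'⟩ := hωE
  haveI := hiqc
  haveI := hgqs
  haveI := hg
  exact nonempty_iso_of_isCanonicalVia i g ιk _ (hig.trans hιk.symm) hi hregk hvia' hvia

end Groth.L13.Canon
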