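import Groth.Agent.L13.Canon.VertAlg
import Groth.Agent.L14.RegImmStalk.Stalk
import Groth.Agent.L14.RegImmStalk.Kinds
import Groth.Agent.L05.InterPair.Negative
import Groth.Agent.L05.EulerDiv.Fibre
import Groth.Agent.L16.ProjSpace.BaseChange
import Groth.Agent.L22.Adjunction.LCI
import Groth.Agent.L02.PicProper.Main
import Groth.Agent.S8855
import Groth.Agent.S4991

/-!
# A vertical curve of an arithmetic surface as a local complete intersection
-/

set_option autoImplicit false
set_option backward.isDefEq.respectTransparency false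
set_option linter.style.haveILetI false
set_option linter.unusedSectionVars false
universe u

open CategoryTheory CategoryTheory.Limits AlgebraicGeometry TopologicalSpace
open IsLocalRing (maximalIdeal)

noncomputable section

namespace Groth.L13.Canon

/-- An effective Cartier closed subscheme is cut out at every point by a non-zero element of the stalk. -/
theorem exists_stalk_eq {Z W : Scheme.{u}} (i : Z ⟶ W) [IsClosedImmersion i]
    (hi : BlowUp.IsEffCartierIdeal i.ker) (z : Z) :
    ∃ t : W.presheaf.stalk (i z), t ≠ 0 ∧ RingHom.ker (i.stalkMap z).hom = Ideal.span {t} := by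
  obtain ⟨⟨U, hU⟩, hzU, f, hf, hfI⟩ := hi (i z)
  have hk := Groth.L14.RegImmStalk.ker_stalkMap i hU inferInstance z hzU
  rw [← Scheme.Hom.ker_apply i ⟨U, hU⟩, hfI, Ideal.map_span, Set.image_singleton] at hk
  refine ⟨_, fun h0 => ?_, hk⟩
  letI : Algebra Γ(W, U) (W.presheaf.stalk (i z)) := (W.presheaf.germ U (i z) hzU).hom.toAlgebra
  haveI := hU.isLocalization_stalk ⟨i z, hzU⟩
  obtain ⟨s, hs⟩ := (IsLocalization.map_eq_zero_iff (hU.primeIdealOf ⟨i z, hzU⟩).asIdeal.primeCompl
    (W.presheaf.stalk (i z)) f).1 h0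
  exact s.2 ((mem_nonZeroDivisors_iff_right.1 hf s.1 hs).symm ▸ zero_mem _)

/-- The dimension drops by one along an effective Cartier divisor with regular ambient scheme. -/
theorem exists_stalk_dim {Z W : Scheme.{u}} (i : Z ⟶ W) [IsClosedImmersion i]
    (hi : BlowUp.IsEffCartierIdeal i.ker) (z : Z) [IsRegularLocalRing (W.presheaf.stalk (i z))] :
    ∃ t : W.presheaf.stalk (i z), t ∈ maximalIdeal _ ∧ RingHom.ker (i.stalkMap z).hom = Ideal.span {t} ∧
      ringKrullDim (Z.presheaf.stalk z) + 1 = ringKrullDim (W.presheaf.stalk (i z)) := by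
  obtain ⟨t, ht, hk⟩ := exists_stalk_eq i hi z
  haveI := Groth.L01.isDomain_of_regular (W.presheaf.stalk (i z))
  have hmax : t ∈ maximalIdeal (W.presheaf.stalk (i z)) :=
    IsLocalRing.le_maximalIdeal (RingHom.ker_ne_top _) (hk.ge (Ideal.mem_span_singleton_self t))
  refine ⟨t, hmax, hk, ?_⟩
  rw [← ringKrullDim_eq_of_ringEquiv ((Ideal.quotEquivOfEq hk.symm).trans
    (RingHom.quotientKerEquivOfSurjective (Scheme.Hom.stalkMap_surjective i z)))]
  exact ringKrullDim_quotient_span_singleton_succ_eq_ringKrullDim_of_mem_nonZeroDivisors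
    (mem_nonZeroDivisors_of_ne_zero ht) hmax

/-- A closed immersion of a connected regular scheme into a regular scheme has constant codimension. -/
theorem exists_codim {Z W : Scheme.{u}} (j : Z ⟶ W) [IsClosedImmersion j] [IsLocallyNoetherian W]
    [PreconnectedSpace Z] [Nonempty Z]
    (hW : ∀ w : W, IsRegularLocalRing (W.presheaf.stalk w))
    (hZ : ∀ z : Z, IsRegularLocalRing (Z.presheaf.stalk z)) :
    ∃ c : ℕ, RegImm.IsRegularImmersionOfCodim .regular c j ∧
      ∀ z : Z, ∃ g : Fin c → W.presheaf.stalk (j z),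
        RingHom.ker (j.stalkMap z).hom = Ideal.span (Set.range g) ∧
          ringKrullDim (Z.presheaf.stalk z) + (c : WithBot ℕ∞) = ringKrullDim (W.presheaf.stalk (j z)) := by
  haveI : IsLocallyNoetherian Z := LocallyOfFiniteType.isLocallyNoetherian j
  obtain ⟨-, hj⟩ := Groth.Agent.S8855.result j hW hZ
  choose U hzU hcl rs hrs hker using hj
  have key : ∀ (z y : Z) (hy : j y ∈ (U z).1),
      RingHom.ker (j.stalkMap y).hom =
        Ideal.ofList ((rs z).map (W.presheaf.germ (U z).1 (j y) hy).hom) ∧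
      ringKrullDim (Z.presheaf.stalk y) + ((rs z).length : WithBot ℕ∞) = ringKrullDim (W.presheaf.stalk (j y)) := by
    intro z y hy
    haveI : IsNoetherianRing Γ(W, (U z).1) := IsLocallyNoetherian.component_noetherian (U z)
    letI : Algebra Γ(W, (U z).1) (W.presheaf.stalk (j y)) := (W.presheaf.germ (U z).1 (j y) hy).hom.toAlgebra
    haveI := (U z).2.isLocalization_stalk ⟨j y, hy⟩
    haveI := hW (j y)
    let L := W.presheaf.stalk (j y)
    have hk := Groth.L14.RegImmStalk.ker_stalkMap j (U z).2 (hcl z) y hy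
    rw [hker z, Ideal.map_ofList] at hk
    refine ⟨hk, ?_⟩
    have hle : Ideal.ofList (rs z) ≤ ((U z).2.primeIdealOf ⟨j y, hy⟩).asIdeal := fun a ha => by
      refine (IsLocalization.AtPrime.to_map_mem_maximal_iff L _ a).mp
        (IsLocalRing.le_maximalIdeal (RingHom.ker_ne_top _) (hk.ge ?_))
      rw [← Ideal.map_ofList]
      exact Ideal.mem_map_of_mem _ ha
    have hreg : RingTheory.Sequence.IsRegular L ((rs z).map (W.presheaf.germ (U z).1 (j y) hy).hom) := by
      refine ⟨Groth.L14.RegImmStalk.isWeaklyRegular_of_kind _ (hrs z) _ hle L, fun htop => ?_⟩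
      rw [smul_eq_mul, Ideal.mul_top, ← hk] at htop
      exact RingHom.ker_ne_top _ htop.symm
    rw [← ringKrullDim_eq_of_ringEquiv ((Ideal.quotEquivOfEq hk.symm).trans
      (RingHom.quotientKerEquivOfSurjective (Scheme.Hom.stalkMap_surjective j y))),
      ← ringKrullDim_add_length_eq_ringKrullDim_of_isRegular _ hreg, List.length_map]
  have hconst : IsLocallyConstant fun z => (rs z).length := by
    refine (IsLocallyConstant.iff_exists_open _).2 fun z => ⟨(j ⁻¹ᵁ (U z).1 : Set Z), (j ⁻¹ᵁ (U z).1).2, hzU z,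
      fun y hy => ?_⟩
    have h1 := (key z y hy).2
    have h2 := (key y y (hzU y)).2
    haveI := hZ y
    obtain ⟨n, hn⟩ := Groth.L01.exists_dim_eq_nat (R := Z.presheaf.stalk y)
    rw [← h2, hn] at h1
    have h : n + (rs z).length = n + (rs y).length := by exact_mod_cast h1
    omega
  obtain ⟨z₀⟩ := ‹Nonempty Z›
  have hlen : ∀ z, (rs z).length = (rs z₀).length := fun z => hconst.apply_eq_of_preconnectedSpace z z₀
  refine ⟨(rs z₀).length, ⟨inferInstance, fun z => ⟨U z, hzU z, hcl z, rs z, hlen z, hrs z, hker z⟩⟩, fun z => ?_⟩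
  obtain ⟨h1, h2⟩ := key z z (hzU z)
  rw [hlen z] at h2
  refine ⟨fun i => ((rs z).map (W.presheaf.germ (U z).1 (j z) (hzU z)).hom).get (i.cast (by rw [List.length_map, hlen z])),
    h1.trans (congrArg Ideal.span (Set.ext fun a => ?_)), h2⟩
  show a ∈ List.map _ (rs z) ↔ _
  rw [List.mem_iff_get]
  exact ⟨fun ⟨i, hi⟩ => ⟨i.cast (by rw [List.length_map, hlen z]), by simpa using hi⟩, fun ⟨i, hi⟩ => ⟨_, hi⟩⟩

section

variable {R : Type u} [CommRing R] [IsDomain R] [IsDiscreteValuationRing R]

/-- Projective space over a discrete valuation ring is regular. -/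
theorem regular_projSpace (N : ℕ) (p : CohB1.ProjSpace N R) :
    IsRegularLocalRing ((CohB1.ProjSpace N R).presheaf.stalk p) := by
  haveI : IsNoetherianRing (CommRingCat.of R) := inferInstanceAs (IsNoetherianRing R)
  exact (Groth.Agent.S4991.result (CohB1.ProjSpace.toSpec N R) p ⟨⊤, trivial, inferInstance⟩).2
    (Groth.L02.PicProper.isRegularLocalRing_stalk_spec R _)

/-- An arithmetic surface sits in a projective space. -/
theorem exists_embedding {X : Over (Spec (CommRingCat.of R))} (hX : ArSurf.IsArithSurface R X) :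
    ∃ (N : ℕ) (j : X.left ⟶ CohB1.ProjSpace N R), IsClosedImmersion j ∧ j ≫ CohB1.ProjSpace.toSpec N R = X.hom := by
  obtain ⟨-, -, -, -, N, i, hi, hiX⟩ := hX
  haveI := hi
  refine ⟨N, i ≫ (Groth.L16.ProjSpace.isoOver N R).inv, inferInstance, ?_⟩
  rw [Category.assoc, ← Groth.L16.ProjSpace.isoOver_hom_toBase (n := N) (R := R), Iso.inv_hom_id_assoc, hiX]

/-- The special fibre of projective space. -/
abbrev qk (R : Type u) [CommRing R] [IsDomain R] [IsDiscreteValuationRing R] (N : ℕ) :
    CohB1.ProjSpace N (IsLocalRing.ResidueField R) ⟶ CohB1.ProjSpace N R :=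
  Groth.L16.ProjSpace.map N (IsLocalRing.residue R)

theorem isPullback_qk (N : ℕ) : IsPullback (qk R N) (CohB1.ProjSpace.toSpec N (IsLocalRing.ResidueField R))
    (CohB1.ProjSpace.toSpec N R) (Spec.map (CommRingCat.ofHom (IsLocalRing.residue R))) :=
  Groth.L16.ProjSpace.isPullback_map N (IsLocalRing.residue R)

theorem isClosedImmersion_qk (N : ℕ) : IsClosedImmersion (qk R N) := by
  haveI := Groth.L05.InterPair.isClosedImmersion_pt (R := R)
  exact MorphismProperty.of_isPullback (P := @IsClosedImmersion) (isPullback_qk N).flip inferInstance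

theorem ker_qk (N : ℕ) :
    (qk R N).ker = Models.specialFibreIdeal R (Over.mk (CohB1.ProjSpace.toSpec N R)) := by
  haveI := Groth.L05.InterPair.isClosedImmersion_pt (R := R)
  haveI := isClosedImmersion_qk (R := R) N
  rw [← (isPullback_qk N).isoPullback_hom_fst, Scheme.Hom.ker_comp_of_isIso,
    Scheme.IdealSheafData.ker_fst_of_isClosedImmersion, Groth.L05.EulerDiv.ker_pt]
  rfl

/-- The ideal of the special fibre of projective space is trivial as a module. -/
theorem nonempty_idealMod_qk (N : ℕ) :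
    Nonempty (ClSub.idealMod (qk R N).ker ≅ Coh.structureModule (CohB1.ProjSpace N R)) := by
  rw [ker_qk]
  haveI : Flat (Over.mk (CohB1.ProjSpace.toSpec N R)).hom := inferInstanceAs (Flat (CohB1.ProjSpace.toSpec N R))
  exact Groth.L05.InterPair.nonempty_iso_idealMod_fibre (X := Over.mk (CohB1.ProjSpace.toSpec N R))

theorem isEffCartier_qk (N : ℕ) : BlowUp.IsEffCartierIdeal (qk R N).ker := by
  obtain ⟨e⟩ := nonempty_idealMod_qk (R := R) N
  exact (Groth.Agent.L19.IdealInvertible.isEffCartier_iff _).1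
    (Groth.L18.Ample.isInvertible_of_iso e.symm (Groth.L18.Ample.isInvertible_structureModule _))

variable {X : Over (Spec (CommRingCat.of R))} (hX : ArSurf.IsArithSurface R X) (E : ArSurf.VertComp R X)

include hX in
theorem isEffCartier_vert : BlowUp.IsEffCartierIdeal E.ι.ker := by
  obtain ⟨hreg, hint, hdim, hflat, m, e, he, hfac⟩ := hX
  haveI := hint
  haveI := hflat
  haveI := he
  haveI : IsProper X.hom := hfac ▸ inferInstance
  haveI : IsLocallyNoetherian X.left := LocallyOfFiniteType.isLocallyNoetherian X.hom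
  exact Groth.L05.InterPair.isEffCartier_of_surface hreg hdim E

include hX in
/-- The curve in the projective space over the residue field. -/
theorem exists_vert_lci {N : ℕ} (j : X.left ⟶ CohB1.ProjSpace N R) [IsClosedImmersion j]
    (hj : j ≫ CohB1.ProjSpace.toSpec N R = X.hom) :
    ∃ (c : ℕ) (ιk : E.curve.left ⟶ CohB1.ProjSpace N (IsLocalRing.ResidueField R)),
      RegImm.IsRegularImmersionOfCodim .regular c j ∧ c + 1 = N ∧ IsClosedImmersion ιk ∧
        ιk ≫ CohB1.ProjSpace.toSpec N (IsLocalRing.ResidueField R) = E.curve.hom ∧ ιk ≫ qk R N = E.ι ≫ j ∧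
        (∀ Z : Set ↥E.curve.left, Z ∈ irreducibleComponents ↥E.curve.left →
          topologicalKrullDim ↥Z = ((N - c : ℕ) : WithBot ℕ∞)) ∧
        ∀ x : E.curve.left, ∃ U : (CohB1.ProjSpace N (IsLocalRing.ResidueField R)).affineOpens,
          ιk.base x ∈ (U : (CohB1.ProjSpace N (IsLocalRing.ResidueField R)).Opens) ∧
            ∃ f : Fin c → Γ(CohB1.ProjSpace N (IsLocalRing.ResidueField R),
                (U : (CohB1.ProjSpace N (IsLocalRing.ResidueField R)).Opens)),
              ιk.ker.ideal U = Ideal.span (Set.range f) := by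
  have hEC := isEffCartier_vert hX E
  obtain ⟨hreg, hint, hdim, hflat, -⟩ := hX
  haveI := hint
  haveI := hflat
  let κ := IsLocalRing.ResidueField R
  let P := CohB1.ProjSpace N R
  let Pk := CohB1.ProjSpace N κ
  let q := qk R N
  haveI := isClosedImmersion_qk (R := R) N
  haveI : IsProper X.hom := hj ▸ inferInstance
  haveI : IsLocallyNoetherian X.left := LocallyOfFiniteType.isLocallyNoetherian X.hom
  obtain ⟨c, hjc, hcodim⟩ := exists_codim j (regular_projSpace N) hreg
  let ιk : E.curve.left ⟶ Pk := (isPullback_qk N).lift (E.ι ≫ j) E.curve.hom (by rw [Category.assoc, hj, E.w])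
  have hιq : ιk ≫ q = E.ι ≫ j := IsPullback.lift_fst _ _ _ _
  have hιk : ιk ≫ CohB1.ProjSpace.toSpec N κ = E.curve.hom := IsPullback.lift_snd _ _ _ _
  haveI : IsClosedImmersion (ιk ≫ q) := hιq ▸ inferInstance
  haveI : IsClosedImmersion ιk := IsClosedImmersion.of_comp ιk q
  have hreg' : ∀ p : Pk, IsRegularLocalRing (Pk.presheaf.stalk p) := fun p => by
    haveI : Smooth (CohB1.ProjSpace.toSpec N κ) := SmoothOfRelativeDimension.smooth N _
    exact Groth.L21.Smooth.regular_stalk (CohB1.ProjSpace.toSpec N κ) p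
  -- the ideal of the curve in the big projective space, at a point
  have hbig : ∀ (f : E.curve.left ⟶ P), f = E.ι ≫ j → ∀ e : E.curve.left,
      ∃ g : Fin (c + 1) → P.presheaf.stalk (f e), RingHom.ker (f.stalkMap e).hom = Ideal.span (Set.range g) ∧
        ringKrullDim (E.curve.left.presheaf.stalk e) + 1 + (c : WithBot ℕ∞) = ringKrullDim (P.presheaf.stalk (f e)) ∧
        (e = genericPoint E.curve.left → ringKrullDim (E.curve.left.presheaf.stalk e) + 1 = 1) := by
    rintro f rfl e
    haveI := hreg (E.ι e)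
    obtain ⟨t, -, hkt, hdt⟩ := exists_stalk_dim E.ι hEC e
    obtain ⟨g, hkg, hdg⟩ := hcodim (E.ι e)
    obtain ⟨t', ht'⟩ := Scheme.Hom.stalkMap_surjective j (E.ι e) t
    refine ⟨Fin.cons t' g, ?_, by rw [hdt]; exact hdg, ?_⟩
    · have e1 : RingHom.ker ((E.ι ≫ j).stalkMap e).hom =
          (RingHom.ker (E.ι.stalkMap e).hom).comap (j.stalkMap (E.ι e)).hom := by
        rw [RingHom.comap_ker]
        exact congrArg (fun φ : P.presheaf.stalk (j (E.ι e)) ⟶ E.curve.left.presheaf.stalk e => RingHom.ker φ.hom)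
          (Scheme.Hom.stalkMap_comp E.ι j e)
      rw [e1, hkt, ← ht', ← Set.image_singleton, ← Ideal.map_span,
        Ideal.comap_map_of_surjective _ (Scheme.Hom.stalkMap_surjective j (E.ι e)), ← RingHom.ker_eq_comap_bot,
        hkg, ← Ideal.span_union, Fin.range_cons, Set.insert_eq]
      rfl
    · rintro rfl
      rw [hdt]
      exact Groth.L05.InterPair.dim_genPtOf_of_surface hreg hdim E
  -- at a point of the small projective space
  have hsmall : ∀ e : E.curve.left, ∃ f : Fin c → Pk.presheaf.stalk (ιk e),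
      RingHom.ker (ιk.stalkMap e).hom = Ideal.span (Set.range f) ∧
        (e = genericPoint E.curve.left → ringKrullDim (Pk.presheaf.stalk (ιk e)) = (c : WithBot ℕ∞)) := by
    intro e
    obtain ⟨g, hg, hdA, hgen⟩ := hbig (ιk ≫ q) hιq e
    haveI : IsRegularLocalRing (P.presheaf.stalk (q (ιk e))) := regular_projSpace N _
    haveI := hreg' (ιk e)
    obtain ⟨π, hπm, hkπ, hdB⟩ := exists_stalk_dim q (isEffCartier_qk N) (ιk e)
    let φ : P.presheaf.stalk (q (ιk e)) →+* Pk.presheaf.stalk (ιk e) := (q.stalkMap (ιk e)).hom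
    have hφ : Function.Surjective φ := Scheme.Hom.stalkMap_surjective q (ιk e)
    let ε : (P.presheaf.stalk (q (ιk e)) ⧸ Ideal.span {π}) ≃+* Pk.presheaf.stalk (ιk e) :=
      (Ideal.quotEquivOfEq hkπ.symm).trans (RingHom.quotientKerEquivOfSurjective hφ)
    haveI : IsRegularLocalRing (P.presheaf.stalk (q (ιk e)) ⧸ Ideal.span {π}) := IsRegularLocalRing.of_ringEquiv ε.symm
    have h2 : π ∉ maximalIdeal (P.presheaf.stalk (q (ιk e))) ^ 2 :=
      notMem_sq_of_quotient hπm (by rw [ringKrullDim_eq_of_ringEquiv ε]; exact hdB)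
    have e1 : RingHom.ker ((ιk ≫ q).stalkMap e).hom = (RingHom.ker (ιk.stalkMap e).hom).comap φ := by
      rw [RingHom.comap_ker]
      exact congrArg (fun ψ : P.presheaf.stalk (q (ιk e)) ⟶ E.curve.left.presheaf.stalk e => RingHom.ker ψ.hom)
        (Scheme.Hom.stalkMap_comp ιk q e)
    have hgm : ∀ i, g i ∈ maximalIdeal (P.presheaf.stalk (q (ιk e))) := fun i =>
      IsLocalRing.le_maximalIdeal (RingHom.ker_ne_top _) (hg.ge (Ideal.subset_span ⟨i, rfl⟩))
    have hπJ : π ∈ Ideal.span (Set.range g) := by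
      rw [← hg, e1, Ideal.mem_comap, RingHom.mem_ker.1 (hkπ.ge (Ideal.mem_span_singleton_self π) : π ∈ RingHom.ker φ)]
      exact zero_mem _
    obtain ⟨f, hf⟩ := exists_complement g hgm hπJ h2
    refine ⟨φ ∘ f, ?_, fun he => ?_⟩
    · rw [← Ideal.map_comap_of_surjective φ hφ (RingHom.ker (ιk.stalkMap e).hom), ← e1, hg, hf, Ideal.map_sup,
        Ideal.map_span, Ideal.map_span, Set.image_singleton,
        RingHom.mem_ker.1 (hkπ.ge (Ideal.mem_span_singleton_self π) : π ∈ RingHom.ker φ), Ideal.span_singleton_zero,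
        bot_sup_eq, ← Set.range_comp]
    · obtain ⟨b, hb⟩ := Groth.L01.exists_dim_eq_nat (R := Pk.presheaf.stalk (ιk e))
      have h1 : ringKrullDim (P.presheaf.stalk (q (ιk e))) = ((1 + c : ℕ) : WithBot ℕ∞) := by
        rw [← show _ = ringKrullDim (P.presheaf.stalk (q (ιk e))) from hdA, hgen he]
        push_cast
        rfl
      rw [← hdB, hb] at h1
      rw [hb]
      have : b + 1 = 1 + c := by exact_mod_cast h1
      exact_mod_cast (show b = c by omega)
  -- the relative dimension
  have hN : c + 1 = N := by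
    let η := genericPoint E.curve.left
    obtain ⟨f, -, hdim'⟩ := hsmall η
    letI : Pk.Over (Spec (CommRingCat.of κ)) := ⟨CohB1.ProjSpace.toSpec N κ⟩
    haveI : SmoothOfRelativeDimension N (Pk ↘ Spec (CommRingCat.of κ)) :=
      (inferInstance : SmoothOfRelativeDimension N (CohB1.ProjSpace.toSpec N κ))
    haveI : LocallyOfFiniteType (Pk ↘ Spec (CommRingCat.of κ)) :=
      inferInstanceAs (LocallyOfFiniteType (CohB1.ProjSpace.toSpec N κ))
    obtain ⟨a, b, ha, hb, hloc⟩ := Groth.L22.SchemeDim.exists_localDim κ Pk (ιk η)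
    obtain ⟨m, hm, htr⟩ := Groth.L22.SchemeDim.exists_dim_closure_eq_trdeg κ Pk (ιk η)
    obtain rfl : a = m := by exact_mod_cast ha.symm.trans htr
    have hc : topologicalKrullDim (closure ({ιk η} : Set ↥Pk)) = 1 := by
      refine (Groth.L22.SchemeDim.topologicalKrullDim_eq_of_isEmbedding (f := ιk) ιk.isEmbedding ?_).trans E.dim_eq
      rw [← Set.image_univ, ← (genericPoint_spec E.curve.left).def, ← ιk.isClosedEmbedding.closure_image_eq,
        Set.image_singleton]
    have e1 : a = 1 := by exact_mod_cast hm.symm.trans hc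
    have e2 : b = c := by exact_mod_cast hb.symm.trans (hdim' rfl)
    have e3 : a + b = N := by
      exact_mod_cast hloc.symm.trans (Groth.L22.Adjunction.localDim_eq κ N Pk (ιk η))
    omega
  refine ⟨c, ιk, hjc, hN, inferInstance, hιk, hιq, fun Z hZ => ?_, fun x => ?_⟩
  · obtain rfl : Z = Set.univ :=
      (hZ.eq_of_ge (IrreducibleSpace.isIrreducible_univ E.curve.left) (Set.subset_univ _)).symm
    rw [show N - c = 1 by omega, Nat.cast_one, ← E.dim_eq]
    exact IsHomeomorph.topologicalKrullDim_eq _ (Homeomorph.Set.univ ↥E.curve.left).isHomeomorph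
  · obtain ⟨f, hf, -⟩ := hsmall x
    haveI := Groth.L22.PDual.proper N κ
    obtain ⟨_, ⟨W, hW, rfl⟩, hxW, -⟩ :=
      Pk.isBasis_affineOpens.exists_subset_of_mem_open (Set.mem_univ (ιk x)) isOpen_univ
    haveI : IsNoetherianRing Γ(Pk, W) := IsLocallyNoetherian.component_noetherian ⟨W, hW⟩
    letI : Algebra Γ(Pk, W) (Pk.presheaf.stalk (ιk x)) := (Pk.presheaf.germ W (ιk x) hxW).hom.toAlgebra
    haveI := hW.isLocalization_stalk ⟨ιk x, hxW⟩
    obtain ⟨g, a, hg, hgen⟩ := exists_away_span (RingHom.ker (ιk.app W).hom) (IsNoetherian.noetherian _)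
      (hW.primeIdealOf ⟨ιk x, hxW⟩).asIdeal (Pk.presheaf.stalk (ιk x)) f
      ((Groth.L14.RegImmStalk.ker_stalkMap ιk hW inferInstance x hxW).symm.trans hf)
    have hxD : ιk x ∈ Pk.basicOpen g := by
      rw [Pk.mem_basicOpen _ _ hxW]
      exact IsLocalization.map_units (Pk.presheaf.stalk (ιk x))
        (⟨g, hg⟩ : (hW.primeIdealOf ⟨ιk x, hxW⟩).asIdeal.primeCompl)
    letI : Algebra Γ(Pk, W) Γ(Pk, Pk.basicOpen g) :=
      (Pk.presheaf.map (homOfLE (Pk.basicOpen_le g)).op).hom.toAlgebra
    haveI : IsLocalization.Away g Γ(Pk, Pk.basicOpen g) := hW.isLocalization_basicOpen g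
    refine ⟨⟨_, hW.basicOpen g⟩, hxD, fun i => algebraMap Γ(Pk, W) Γ(Pk, Pk.basicOpen g) (a i), ?_⟩
    rw [Scheme.Hom.ker_apply, ← Groth.L22.FLI.ker_basicOpen ⟨W, hW⟩ g]
    exact hgen _ (IsLocalization.Away.algebraMap_isUnit g)

end

end Groth.L13.Canon
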